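import Groth.Agent.FittLib.StrictTransform
import Groth.Agent.FlatMorDevissage.IntegralProjective
import Groth.Agent.FlatMorDevissage.Fibres
import Groth.Agent.S9011

/-! Contents along a projective flat algebra and Fitting ideals of torsion free quotients. -/

set_option autoImplicit false
set_option backward.isDefEq.respectTransparency false

universe u

open TensorProduct

namespace Groth.Agent.FlatMorBlowFree

open Groth.Agent

variable {R S : Type u} [CommRing R] [CommRing S] [Algebra R S]

/-- Contents of elements of a projective algebra are finitely generated and universal. -/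
theorem exists_content [Module.Projective R S] :
    ∃ C : S → Ideal R, (∀ d, (C d).FG ∧ d ∈ (C d).map (algebraMap R S)) ∧
      ∀ (d : S) (R' S' : Type u) [CommRing R'] [CommRing S'] [Algebra R R'] [Algebra S S'] [Algebra R' S']
        [Algebra R S'] [IsScalarTower R S S'] [IsScalarTower R R' S'] [Algebra.IsPushout R R' S S'] (J : Ideal R'),
        algebraMap S S' d ∈ J.map (algebraMap R' S') → (C d).map (algebraMap R R') ≤ J := by
  classical
  obtain ⟨s, hs⟩ := Module.projective_def.1 ‹Module.Projective R S›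
  refine ⟨fun d => Ideal.span (((s d).support.image (s d) : Finset R) : Set R), fun d => ⟨⟨_, rfl⟩, ?_⟩, ?_⟩
  · have h : d ∈ Ideal.span (((s d).support.image (s d) : Finset R) : Set R) • (⊤ : Submodule R S) := by
      refine (congrArg (· ∈ _) (hs d)).mp ?_
      rw [Finsupp.linearCombination_apply]
      exact Submodule.sum_mem _ fun i hi =>
        Submodule.smul_mem_smul (Ideal.subset_span (Finset.mem_image_of_mem _ hi)) trivial
    rwa [Ideal.smul_top_eq_map] at h
  · intro d R' S' _ _ _ _ _ _ _ _ _ J hJ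
    have hbc : IsBaseChange R' (IsScalarTower.toAlgHom R S S').toLinearMap :=
      (inferInstance : Algebra.IsPushout R R' S S').out
    let σ : S' →ₗ[R'] (S →₀ R') := hbc.lift (Finsupp.mapRange.linearMap (Algebra.linearMap R R') ∘ₗ s)
    have hσ : σ (algebraMap S S' d) = Finsupp.mapRange (algebraMap R R') (map_zero _) (s d) :=
      hbc.lift_eq _ d
    refine Ideal.map_le_iff_le_comap.2 (Ideal.span_le.2 fun a ha => ?_)
    obtain ⟨i, -, rfl⟩ := Finset.mem_image.1 ha
    have hJ' : algebraMap S S' d ∈ J • (⊤ : Submodule R' S') := by rwa [Ideal.smul_top_eq_map]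
    have h := (Submodule.map_smul'' J ⊤ (Finsupp.lapply i ∘ₗ σ)).trans_le
      (Submodule.smul_mono le_rfl le_top) (Submodule.mem_map_of_mem hJ')
    rw [Ideal.smul_eq_mul, Ideal.mul_top, LinearMap.comp_apply, hσ] at h
    rw [SetLike.mem_coe, Ideal.mem_comap]
    simpa using h

/-- An element outside `pS` does not vanish in a field extension of the fibre. -/
theorem tmul_ne_zero [Module.Flat R S] (p : Ideal R) (K : Type u) [Field K] [Algebra R K]
    (hK : RingHom.ker (algebraMap R K) = p) {t : S} (ht : t ∉ p.map (algebraMap R S)) : (1 : K) ⊗ₜ[R] t ≠ 0 := by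
  intro h
  let ι : (R ⧸ p) →ₐ[R] K := Ideal.Quotient.liftₐ p (Algebra.ofId R K) fun a ha => by
    show algebraMap R K a = 0
    rwa [← RingHom.mem_ker, hK]
  have hι : Function.Injective ι := (injective_iff_map_eq_zero _).2 fun a ha => by
    obtain ⟨a, rfl⟩ := Ideal.Quotient.mk_surjective a
    rw [Ideal.Quotient.eq_zero_iff_mem, ← hK]
    exact ha
  have hinj := Module.Flat.rTensor_preserves_injective_linearMap (M := S) ι.toLinearMap hι
  have h1 : (1 : R ⧸ p) ⊗ₜ[R] t = 0 := hinj (by
    rw [LinearMap.rTensor_tmul, map_zero, AlgHom.toLinearMap_apply, map_one, h])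
  have h2 := congrArg (TensorProduct.quotTensorEquivQuotSMul S p) h1
  rw [map_zero, show (1 : R ⧸ p) = Ideal.Quotient.mk p 1 from (map_one _).symm,
    TensorProduct.quotTensorEquivQuotSMul_mk_tmul, one_smul, Submodule.Quotient.mk_eq_zero,
    Ideal.smul_top_eq_map] at h2
  exact ht h2

/-- A zero divisor outside `pS` kills only elements vanishing at `p`. -/
theorem exists_smul_eq_zero_of_mul_eq_zero [Module.Flat R S] [Module.Projective R S]
    (hdom : FlatMorDevissage.FibresDomain R S) (p : Ideal R) [p.IsPrime] {t d : S}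
    (ht : t ∉ p.map (algebraMap R S)) (h : t * d = 0) : ∃ s ∉ p, s • d = 0 := by
  let Rp := Localization.AtPrime p
  let K := (IsLocalRing.maximalIdeal Rp).ResidueField
  have hK : RingHom.ker (algebraMap R K) = p := by
    rw [IsScalarTower.algebraMap_eq R Rp K, ← RingHom.comap_ker, Ideal.ker_algebraMap_residueField]
    exact Localization.AtPrime.under_maximalIdeal
  have hne := tmul_ne_zero (S := S) p K hK ht
  have : IsDomain (K ⊗[R] S) := hdom K
  let l : Rp ⊗[R] S →ₗ[Rp] Rp ⊗[R] S := (LinearMap.mulLeft R t).baseChange Rp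
  let e := AlgebraTensorModule.cancelBaseChange R Rp K K S
  have he : ∀ z, e (l.lTensor K z) = ((1 : K) ⊗ₜ[R] t) * e z := fun z => by
    induction z using TensorProduct.induction_on with
    | zero => simp
    | tmul a w =>
      induction w using TensorProduct.induction_on with
      | zero => simp
      | tmul r x =>
        simp [l, e, Algebra.TensorProduct.tmul_mul_tmul]
      | add x y hx hy => simp only [tmul_add, map_add, mul_add, hx, hy]
    | add x y hx hy => simp only [map_add, mul_add, hx, hy]
  have hl : Function.Injective (l.lTensor K) := (injective_iff_map_eq_zero _).2 fun z hz => by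
    have h0 := congrArg e hz
    rw [he, map_zero] at h0
    exact e.map_eq_zero_iff.1 ((mul_eq_zero.1 h0).resolve_left hne)
  have hu := S9011.univInj_of_residue l hl Rp
  have hd : (1 : Rp) ⊗ₜ[R] d = (0 : Rp ⊗[R] S) := by
    have : (1 : Rp) ⊗ₜ[Rp] ((1 : Rp) ⊗ₜ[R] d) = (0 : Rp ⊗[Rp] (Rp ⊗[R] S)) := hu (by
      rw [map_zero, LinearMap.lTensor_tmul]
      show (1 : Rp) ⊗ₜ[Rp] ((LinearMap.mulLeft R t).baseChange Rp ((1 : Rp) ⊗ₜ[R] d)) = 0
      rw [LinearMap.baseChange_tmul, LinearMap.mulLeft_apply, h, tmul_zero, tmul_zero])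
    simpa using congrArg (TensorProduct.lid Rp _) this
  have : IsLocalizedModule p.primeCompl (TensorProduct.mk R Rp S 1) :=
    (isLocalizedModule_iff_isBaseChange p.primeCompl Rp _).2 (TensorProduct.isBaseChange R S Rp)
  obtain ⟨⟨s, hs⟩, hsd⟩ := (IsLocalizedModule.eq_zero_iff p.primeCompl (TensorProduct.mk R Rp S 1)).1 hd
  exact ⟨s, hs, hsd⟩

theorem exists_pow_smul_eq_zero {f : R} {d : S} (h : ∀ (p : Ideal R), p.IsPrime → f ∉ p → ∃ s ∉ p, s • d = 0) :
    ∃ m : ℕ, f ^ m • d = 0 := by
  by_contra hne
  simp only [not_exists] at hne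
  have hdisj : Disjoint (Ideal.torsionOf R S d : Set R) (Submonoid.powers f) := by
    rw [Set.disjoint_left]
    rintro _ hs ⟨m, rfl⟩
    exact hne m hs
  obtain ⟨p, hp, hle, hpd⟩ := Ideal.exists_le_prime_disjoint _ _ hdisj
  obtain ⟨s, hs, hsd⟩ := h p hp fun hfp => Set.disjoint_left.1 hpd hfp (Submonoid.mem_powers f)
  exact hs (hle hsd)

/-- A power torsion quotient keeps vanishing Fitting ideals. -/
theorem ideal_quotient_eq_bot {A M : Type u} [CommRing A] [AddCommGroup M] [Module A M] [Module.Finite A M]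
    (j : ℕ) {c : A} (hc : c ∈ nonZeroDivisors A) (h : Fitt.ideal A M j = ⊥) :
    Fitt.ideal A (M ⧸ FlatCA.powTorsion A c M) j = ⊥ := by
  obtain ⟨n, x, hx⟩ := FittLib.exists_generators A M
  refine (Submodule.eq_bot_iff _).2 fun d hd => ?_
  rw [FittLib.ideal_eq _ (FittLib.span_range_comp_eq_top _ (Submodule.mkQ_surjective _) x hx),
    FittLib.minorsOf] at hd
  induction hd using Submodule.span_induction with
  | zero => rfl
  | add p q _ _ hp hq => rw [hp, hq, add_zero]
  | smul r p _ hp => rw [hp, smul_zero]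
  | mem d hd =>
    obtain ⟨z, e, hz, rfl⟩ := hd
    have hb : ∀ b, ∃ m : ℕ, c ^ m • (∑ i, z b i • x i) = 0 := fun b => by
      refine FittLib.exists_pow_smul_of_mem_powTorsion
        ((Submodule.Quotient.mk_eq_zero (FlatCA.powTorsion A c M)).1 ?_)
      simpa [← Submodule.mkQ_apply, map_sum] using FittLib.mem_rels.1 (hz b)
    obtain ⟨m, hm⟩ := FittLib.exists_uniform_pow_smul (fun b => ∑ i, z b i • x i) c hb
    have hrel : ∀ b, c ^ m • z b ∈ FittLib.rels A x := fun b => FittLib.mem_rels.2 <| by
      simpa [Finset.smul_sum, mul_smul] using hm b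
    have h' : (c ^ m) ^ (n - j) * (Matrix.of fun a b => z b (e a)).det ∈
        FittLib.minorsOf (FittLib.rels A x : Set (Fin n → A)) (n - j) := by
      refine FittLib.pow_mul_minorsOf_le (S := Set.range z) ?_
        (FittLib.det_mem_of_card (S := Set.range z) z (fun b => ⟨b, rfl⟩) e (Fintype.card_fin _))
      rintro _ ⟨b, rfl⟩
      exact hrel b
    rw [← FittLib.ideal_eq x hx, h] at h'
    exact (mul_right_mem_nonZeroDivisors_eq_zero_iff (pow_mem (pow_mem hc m) _)).1
      (by rwa [mul_comm, Submodule.mem_bot] at h')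

end Groth.Agent.FlatMorBlowFree
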