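import Groth.Agent.FlatMorBlowFree.Step

/-! Content ideals of ideals of a flat algebra with integral fibres. -/

set_option autoImplicit false
set_option backward.isDefEq.respectTransparency false

universe u

open TensorProduct

namespace Groth.Agent.FlatMorBlowFree

open Groth.Agent

variable (R : Type u) {S : Type u} [CommRing R] [CommRing S] [Algebra R S]

/-- The smallest ideal of the base generating an ideal containing `I`. -/
def cont (I : Ideal S) : Ideal R := sInf {J | I ≤ J.map (algebraMap R S)}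

variable {R}

theorem cont_le {I : Ideal S} {J : Ideal R} (h : I ≤ J.map (algebraMap R S)) : cont R I ≤ J := sInf_le h

variable [Module.Projective R S]

theorem cont_eq_iSup {C : S → Ideal R} (hC : ∀ d, (C d).FG ∧ d ∈ (C d).map (algebraMap R S))
    (hmin : ∀ (d : S) (J : Ideal R), d ∈ J.map (algebraMap R S) → C d ≤ J) (s : Set S) :
    cont R (Ideal.span s) = ⨆ d : s, C d := by
  refine le_antisymm (cont_le (Ideal.span_le.2 fun d hd =>
    Ideal.map_mono (le_iSup (fun d : s => C d) ⟨d, hd⟩) (hC d).2)) ?_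
  exact iSup_le fun d => le_sInf fun J hJ => hmin d J (hJ (Ideal.subset_span d.2))

theorem exists_content' : ∃ C : S → Ideal R, (∀ d, (C d).FG ∧ d ∈ (C d).map (algebraMap R S)) ∧
    (∀ (d : S) (J : Ideal R), d ∈ J.map (algebraMap R S) → C d ≤ J) ∧
    ∀ (d : S) (R' S' : Type u) [CommRing R'] [CommRing S'] [Algebra R R'] [Algebra S S'] [Algebra R' S']
      [Algebra R S'] [IsScalarTower R S S'] [IsScalarTower R R' S'] [Algebra.IsPushout R R' S S'] (J : Ideal R'),
      algebraMap S S' d ∈ J.map (algebraMap R' S') → (C d).map (algebraMap R R') ≤ J := by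
  obtain ⟨C, hC, hmin⟩ := exists_content (R := R) (S := S)
  refine ⟨C, hC, fun d J hJ => ?_, hmin⟩
  haveI : Algebra.IsPushout R R S S := ⟨IsBaseChange.ofEquiv (LinearEquiv.refl R S)⟩
  simpa using hmin d R S J hJ

theorem le_map_cont (I : Ideal S) : I ≤ (cont R I).map (algebraMap R S) := by
  obtain ⟨C, hC, hmin, -⟩ := exists_content' (R := R) (S := S)
  intro d hd
  rw [← Ideal.span_eq I, cont_eq_iSup hC hmin]
  exact Ideal.map_mono (le_iSup (fun d : (I : Set S) => C d) ⟨d, hd⟩) (hC d).2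

theorem cont_mono {I I' : Ideal S} (h : I ≤ I') : cont R I ≤ cont R I' := cont_le (h.trans (le_map_cont I'))

theorem cont_bot : cont R (⊥ : Ideal S) = ⊥ := le_bot_iff.1 (cont_le bot_le)

theorem cont_fg {I : Ideal S} (hI : I.FG) : (cont R I).FG := by
  obtain ⟨C, hC, hmin, -⟩ := exists_content' (R := R) (S := S)
  obtain ⟨s, rfl⟩ := hI
  rw [cont_eq_iSup hC hmin]
  exact Submodule.fg_iSup _ fun d => (hC d).1

theorem cont_map {R' S' : Type u} [CommRing R'] [CommRing S'] [Algebra R R'] [Algebra S S'] [Algebra R' S']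
    [Algebra R S'] [IsScalarTower R S S'] [IsScalarTower R R' S'] [Algebra.IsPushout R R' S S'] (I : Ideal S) :
    cont R' (I.map (algebraMap S S')) = (cont R I).map (algebraMap R R') := by
  have : Module.Projective R' S' :=
    Module.Projective.of_equiv (Algebra.IsPushout.equiv R R' S S').toLinearEquiv
  refine le_antisymm (cont_le ((Ideal.map_mono (le_map_cont (R := R) I)).trans (le_of_eq ?_))) ?_
  · rw [Ideal.map_map, Ideal.map_map, ← IsScalarTower.algebraMap_eq, ← IsScalarTower.algebraMap_eq]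
  · obtain ⟨C, hC, hmin, hbc⟩ := exists_content' (R := R) (S := S)
    rw [← Ideal.span_eq I, cont_eq_iSup hC hmin, Ideal.map_iSup, Ideal.span_eq I]
    exact iSup_le fun d => hbc d R' S' _ (le_map_cont (R := R') _ (Ideal.mem_map_of_mem _ d.2))

theorem cont_top (hdom : FlatMorDevissage.FibresDomain R S) : cont R (⊤ : Ideal S) = ⊤ := by
  by_contra h
  obtain ⟨p, hp, hle⟩ := Ideal.exists_le_maximal _ h
  exact (FlatMorDevissage.isPrime_map_of_fibresDomain hdom p).ne_top
    (top_le_iff.1 ((le_map_cont (R := R) (⊤ : Ideal S)).trans (Ideal.map_mono hle)))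

attribute [local instance] Algebra.TensorProduct.rightAlgebra in
/-- An ideal killed at the generic point of a fibre has content vanishing there. -/
theorem exists_mul_cont_eq_zero (hdom : FlatMorDevissage.FibresDomain R S) (p : Ideal R) [p.IsPrime]
    {I : Ideal S} (hI : I.FG) (h : ∀ d ∈ I, ∃ t ∉ p.map (algebraMap R S), t * d = 0) :
    ∃ s ∉ p, ∀ c ∈ cont R I, s * c = 0 := by
  classical
  let Rp := Localization.AtPrime p
  have h0 : I.map (algebraMap S (S ⊗[R] Rp)) = ⊥ := le_bot_iff.1 <| Ideal.map_le_iff_le_comap.2 fun d hd => by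
    obtain ⟨t, ht, htd⟩ := h d hd
    obtain ⟨s, hs, hsd⟩ := exists_smul_eq_zero_of_mul_eq_zero hdom p ht htd
    have hu : IsUnit (algebraMap R (S ⊗[R] Rp) s) := by
      rw [IsScalarTower.algebraMap_eq R Rp (S ⊗[R] Rp)]
      exact (IsLocalization.map_units Rp (⟨s, hs⟩ : p.primeCompl)).map (algebraMap Rp (S ⊗[R] Rp))
    refine hu.mul_right_eq_zero.1 ?_
    rw [IsScalarTower.algebraMap_apply R S (S ⊗[R] Rp), ← map_mul, ← Algebra.smul_def, hsd, map_zero]
  haveI : Algebra.IsPushout R Rp S (S ⊗[R] Rp) := Algebra.IsPushout.symm inferInstance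
  have h1 := cont_map (R := R) (R' := Rp) (S' := S ⊗[R] Rp) I
  haveI : Module.Projective Rp (S ⊗[R] Rp) :=
    Module.Projective.of_equiv (Algebra.IsPushout.equiv R Rp S (S ⊗[R] Rp)).toLinearEquiv
  rw [h0, cont_bot, eq_comm, Ideal.map_eq_bot_iff_le_ker] at h1
  obtain ⟨g, hg⟩ := cont_fg (R := R) hI
  have h2 : ∀ x : g, ∃ s ∉ p, s * (x : R) = 0 := fun x => by
    obtain ⟨⟨s, hs⟩, hsx⟩ := (IsLocalization.map_eq_zero_iff p.primeCompl Rp (x : R)).1
      (h1 (hg ▸ Ideal.subset_span x.2))
    exact ⟨s, hs, hsx⟩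
  choose s hs hsx using h2
  refine ⟨∏ x : g, s x, fun hmem => ?_, fun c hc => ?_⟩
  · obtain ⟨x, -, hx⟩ := (Ideal.IsPrime.prod_mem_iff).1 hmem
    exact hs x hx
  · rw [← hg] at hc
    induction hc using Submodule.span_induction with
    | mem x hx =>
      rw [← Finset.mul_prod_erase _ _ (Finset.mem_univ ⟨x, hx⟩), mul_right_comm, hsx ⟨x, hx⟩, zero_mul]
    | zero => rw [mul_zero]
    | add a b _ _ ha hb => rw [mul_add, ha, hb, add_zero]
    | smul a b _ hb => rw [smul_eq_mul, mul_left_comm, hb, mul_zero]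

theorem not_le_of_cont {p : Ideal R} {I : Ideal S} (h : cont R I ≤ p) : I ≤ p.map (algebraMap R S) :=
  (le_map_cont I).trans (Ideal.map_mono h)

/-- The strict transform of a module with invertible content of its Fitting ideal. -/
theorem fitting_strictTransform {R₁ S' : Type u} [CommRing R₁] [CommRing S'] [Algebra R₁ S']
    [Module.Flat R₁ S'] [Module.Projective R₁ S'] (hdom : FlatMorDevissage.FibresDomain R₁ S')
    {M : Type u} [AddCommGroup M] [Module S' M] [Module.Finite S' M] (r : ℕ) {a e : R₁}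
    (ha : a ∈ nonZeroDivisors R₁) (he : e ∈ nonZeroDivisors R₁) (hae : a ∣ e)
    (hlo : ∀ j, j < r → cont R₁ (Fitt.ideal S' M j) = ⊥)
    (hr : cont R₁ (Fitt.ideal S' M r) = Ideal.span {a}) (p' : Ideal R₁) [p'.IsPrime] :
    (∀ j, j < r → Fitt.ideal S' (M ⧸ FlatCA.powTorsion S' (algebraMap R₁ S' e) M) j = ⊥) ∧
      ¬ Fitt.ideal S' (M ⧸ FlatCA.powTorsion S' (algebraMap R₁ S' e) M) r ≤ p'.map (algebraMap R₁ S') := by
  refine ⟨fun j hj => ideal_quotient_eq_bot j (algebraMap_mem_nonZeroDivisors he) ?_, fun hle => ?_⟩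
  · exact le_bot_iff.1 ((le_map_cont (R := R₁) _).trans (by rw [hlo j hj, Ideal.map_bot]))
  obtain ⟨n, x, hx⟩ := FittLib.exists_generators S' M
  have hC := exists_content' (R := R₁) (S := S')
  obtain ⟨C, hC, hmin, -⟩ := hC
  have hsup : (⨆ d : (Fitt.ideal S' M r : Set S'), C d) = Ideal.span {a} := by
    rw [← cont_eq_iSup hC hmin, Ideal.span_eq, hr]
  have hle' : FlatCA.powTorsion S' (algebraMap R₁ S' (1 * a)) M ≤ FlatCA.powTorsion S' (algebraMap R₁ S' e) M := by
    obtain ⟨c, rfl⟩ := hae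
    refine iSup_mono fun k m hm => ?_
    rw [Submodule.mem_torsionBy_iff] at hm ⊢
    rw [map_mul, mul_pow, mul_comm, mul_smul, show algebraMap R₁ S' a = algebraMap R₁ S' (1 * a) by rw [one_mul],
      hm, smul_zero]
  have := FlatMorDevissage.isPrime_map_of_fibresDomain hdom p'
  refine ideal_not_le x hx r (T := (FittLib.rels S' x : Set (Fin n → S'))) Set.Subset.rfl
    (fun d : (Fitt.ideal S' M r : Set S') => (d : S')) ?_ (fun d => C d) (f := 1) (b := a)
    (by rwa [one_mul]) (fun d => (hC d).2) (fun d I hI => hmin d I hI) (fun d => ?_) ?_ p' (le_trans ?_ hle)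
  · rw [← FittLib.ideal_eq x hx, Subtype.range_coe, Ideal.span_eq]
  · rw [Ideal.span_singleton_one, Ideal.top_mul, one_mul, ← hsup]
    exact le_iSup (fun d : (Fitt.ideal S' M r : Set S') => C d) d
  · rw [hsup]; exact Ideal.mem_span_singleton_self a
  · exact FittLib.ideal_le_of_surjective (Submodule.factor hle') (Submodule.factor_surjective hle') r

end Groth.Agent.FlatMorBlowFree
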