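import Groth.Agent.FlatMorBlowFree.Sheaf
import Groth.Agent.FlatMor12.FittSheaf
import Groth.Agent.EGA43.QcohFlat
import Groth.Agent.CAlgSmall.FPExtend
import Groth.Agent.BlowUpLib.Separate
import Mathlib.RingTheory.LocalRing.Module

/-! Contents of Fitting ideals are locally zero or one where the module is flat at the generic points. -/

set_option autoImplicit false
set_option backward.isDefEq.respectTransparency false

universe u

open TensorProduct

namespace Groth.Agent.FlatMorBlowFree

open Groth.Agent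

/-- A finitely presented flat module whose fibre ring is a field is free. -/
theorem free_of_flat_of_maximal {R A M : Type u} [CommRing R] [CommRing A] [IsLocalRing A] [Algebra R A]
    [AddCommGroup M] [Module A M] [Module R M] [IsScalarTower R A M] [Module.FinitePresentation A M]
    [Module.Flat R M] (p : Ideal R) (h : IsLocalRing.maximalIdeal A = p.map (algebraMap R A)) : Module.Free A M := by
  apply Module.free_of_maximalIdeal_rTensor_injective
  let ψ : (p : Submodule R R) →ₗ[R] ↥(IsLocalRing.maximalIdeal A) :=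
    LinearMap.codRestrict ((IsLocalRing.maximalIdeal A).restrictScalars R)
      ((Algebra.linearMap R A).comp (Submodule.subtype p)) fun x => by
        show algebraMap R A x ∈ IsLocalRing.maximalIdeal A
        rw [h]; exact Ideal.mem_map_of_mem _ x.2
  let Φ : ↥p ⊗[R] M →ₗ[R] ↥(IsLocalRing.maximalIdeal A) ⊗[A] M :=
    TensorProduct.lift (LinearMap.mk₂ R (fun x m => (ψ x) ⊗ₜ[A] m)
        (fun a b m => by rw [map_add, add_tmul]) (fun c a m => by rw [map_smul, smul_tmul'])
        (fun a m m' => by rw [tmul_add]) (fun c a m => by rw [← algebraMap_smul A c m, tmul_smul, algebraMap_smul]))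
  have hΦ : Function.Surjective Φ := fun z => by
    induction z using TensorProduct.induction_on with
    | zero => exact ⟨0, map_zero _⟩
    | add a b ha hb =>
      obtain ⟨a', rfl⟩ := ha
      obtain ⟨b', rfl⟩ := hb
      exact ⟨a' + b', map_add _ _ _⟩
    | tmul y m =>
      obtain ⟨y, hy⟩ := y
      have hy' : y ∈ p.map (algebraMap R A) := h ▸ hy
      revert m hy
      induction hy' using Submodule.span_induction with
      | mem x hx =>
        intro m hy
        obtain ⟨r, hr, rfl⟩ := hx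
        exact ⟨⟨r, hr⟩ ⊗ₜ m, by simp [Φ, ψ]; rfl⟩
      | zero => intro m hy; exact ⟨0, by rw [map_zero]; exact (zero_tmul _ m).symm⟩
      | add a b ha hb iha ihb =>
        intro m hy
        obtain ⟨a', ha'⟩ := iha m (h ▸ ha)
        obtain ⟨b', hb'⟩ := ihb m (h ▸ hb)
        exact ⟨a' + b', by rw [map_add, ha', hb', ← add_tmul]; rfl⟩
      | smul c x hx ih =>
        intro m hy
        obtain ⟨a', ha'⟩ := ih (c • m) (h ▸ hx)
        exact ⟨a', by rw [ha', ← smul_tmul]; rfl⟩
  refine (injective_iff_map_eq_zero _).2 fun z hz => ?_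
  obtain ⟨w, rfl⟩ := hΦ z
  have hinj := Module.Flat.rTensor_preserves_injective_linearMap (M := M) (Submodule.subtype p) Subtype.val_injective
  have key : ∀ v, (TensorProduct.lid A M) ((IsLocalRing.maximalIdeal A).subtype.rTensor M (Φ v)) =
      (TensorProduct.lid R M) ((Submodule.subtype p).rTensor M v) := fun v => by
    induction v using TensorProduct.induction_on with
    | zero => simp
    | tmul x m =>
      simp [Φ, ψ]
      exact algebraMap_smul A (x : R) m
    | add a b ha hb => simp only [map_add, ha, hb]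
  have h0 : (Submodule.subtype p).rTensor M w = 0 :=
    (TensorProduct.lid R M).injective (by rw [← key, hz, map_zero, map_zero])
  rw [hinj (h0.trans (map_zero _).symm), map_zero]

/-- At a prime where the module is flat the content of each Fitting ideal is `1` or vanishes nearby. -/
theorem cont_dichotomy {R S M : Type u} [CommRing R] [CommRing S] [Algebra R S] [Module.Projective R S]
    (hdom : FlatMorDevissage.FibresDomain R S) [AddCommGroup M] [Module S M] [Module R M] [IsScalarTower R S M]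
    [Module.FinitePresentation S M] (p : Ideal R) [p.IsPrime] [(p.map (algebraMap R S)).IsPrime]
    [Module.Flat R (LocalizedModule (p.map (algebraMap R S)).primeCompl M)] (k : ℕ) :
    ¬ cont R (Fitt.ideal S M k) ≤ p ∨ ∃ s ∉ p, ∀ c ∈ cont R (Fitt.ideal S M k), s * c = 0 := by
  let q := p.map (algebraMap R S)
  let A := Localization.AtPrime q
  let P := LocalizedModule q.primeCompl M
  have : Module.FinitePresentation A P := inferInstance
  have hmax : IsLocalRing.maximalIdeal A = p.map (algebraMap R A) := by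
    rw [← Localization.AtPrime.map_eq_maximalIdeal, IsScalarTower.algebraMap_eq R S A, ← Ideal.map_map]
  have : Module.Free A P := free_of_flat_of_maximal p hmax
  have : Module.Finite A P := inferInstance
  let b := Module.finBasis A P
  rcases le_or_gt (Module.finrank A P) k with hk | hk
  · refine Or.inl fun hle => ?_
    have h1 := FittLib.not_le_of_span_localizedModule (S := q.primeCompl) (p := q)
      (Set.disjoint_left.2 fun _ h1 h2 => h1 h2) b b.span_eq
    exact h1 ((FittLib.ideal_mono hk).trans (not_le_of_cont hle))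
  · refine Or.inr (exists_mul_cont_eq_zero hdom p (FittLib.ideal_fg k) fun d hd => ?_)
    have h0 : Fitt.ideal (Localization q.primeCompl) (LocalizedModule q.primeCompl M) k = ⊥ :=
      FittLib.ideal_eq_bot_of_basis b hk
    rw [FittLib.ideal_localizedModule, Ideal.map_eq_bot_iff_le_ker] at h0
    obtain ⟨⟨t, ht⟩, htd⟩ := (IsLocalization.map_eq_zero_iff q.primeCompl A d).1 (h0 hd)
    exact ⟨t, ht, htd⟩

open CategoryTheory AlgebraicGeometry TopologicalSpace

variable {X S : Scheme.{u}} (f : X ⟶ S) [IsAffineHom f] [LocallyOfFinitePresentation f] [Flat f]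
  [GeometricallyIntegral f]

/-- On an open where `F` is fp and flat at the generic points of the fibres. -/
theorem contSheaf_dichotomy (F : X.Modules) [Coh.IsQCoh F] (hF : CohB1.IsFP F) (k : ℕ) (s : S)
    (hfl : ∀ x : X, f.base x = s → closure ({f.asFiber x} : Set (f.fiber (f.base x))) = Set.univ →
      FlatMod.IsFlatOverAt f F x)
    (hs : s ∈ ((contSheaf f (Fitt.sheafIdeal F k)).support : Set S)) :
    ∃ V : S.Opens, s ∈ V ∧ (contSheaf f (Fitt.sheafIdeal F k)).comap V.ι = ⊥ := by
  have hT : CohB1.IsFT F := CAlgSmall.FPExtend.isFT_of_isFP F hF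
  obtain ⟨W, hsW, -⟩ := BlowUpLib.exists_affine_mem_le (show s ∈ (⊤ : S.Opens) from trivial)
  have hU := W.2.preimage f
  obtain ⟨hproj, hflat, hdom⟩ := affine_facts f W.2
  let _ := (f.appLE W.1 (f ⁻¹ᵁ W.1) le_rfl).hom.toAlgebra
  let _ := EGA43.QcohFlat.overModule f F W.1 (f ⁻¹ᵁ W.1) le_rfl
  have : IsScalarTower Γ(S, W.1) Γ(X, f ⁻¹ᵁ W.1) Γ(F, f ⁻¹ᵁ W.1) :=
    IsScalarTower.of_algebraMap_smul fun _ _ => rfl
  have := EGA43.QcohFP.finitePresentation_sections F hF hU
  let p := (W.2.primeIdealOf ⟨s, hsW⟩).asIdeal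
  have : p.IsPrime := (W.2.primeIdealOf ⟨s, hsW⟩).isPrime
  have hqp := FlatMorDevissage.isPrime_map_of_fibresDomain hdom p
  let q : PrimeSpectrum Γ(X, f ⁻¹ᵁ W.1) := ⟨_, hqp⟩
  have hcomap : q.asIdeal.comap (algebraMap Γ(S, W.1) Γ(X, f ⁻¹ᵁ W.1)) = p := by
    refine le_antisymm (fun r hr => ?_) Ideal.le_comap_map
    by_contra hrp
    have := hdom p.ResidueField
    let g := (Algebra.TensorProduct.includeRight (R := Γ(S, W.1)) (A := p.ResidueField)
      (B := Γ(X, f ⁻¹ᵁ W.1))).toRingHom
    have h0 : g (algebraMap Γ(S, W.1) Γ(X, f ⁻¹ᵁ W.1) r) = 0 := by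
      have hle : p.map (algebraMap Γ(S, W.1) Γ(X, f ⁻¹ᵁ W.1)) ≤ RingHom.ker g :=
        Ideal.map_le_iff_le_comap.2 fun c hc => by
          show (Algebra.TensorProduct.includeRight : Γ(X, f ⁻¹ᵁ W.1) →ₐ[Γ(S, W.1)] p.ResidueField ⊗[Γ(S, W.1)] Γ(X, f ⁻¹ᵁ W.1)) (algebraMap _ _ c) = 0
          rw [AlgHom.commutes,
            IsScalarTower.algebraMap_apply Γ(S, W.1) p.ResidueField, Ideal.algebraMap_residueField_eq_zero.2 hc,
            map_zero]
      exact hle hr
    have h0' : (Algebra.TensorProduct.includeRight : Γ(X, f ⁻¹ᵁ W.1) →ₐ[Γ(S, W.1)] p.ResidueField ⊗[Γ(S, W.1)] Γ(X, f ⁻¹ᵁ W.1)) (algebraMap _ _ r) = 0 := h0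
    rw [AlgHom.commutes,
      IsScalarTower.algebraMap_apply Γ(S, W.1) p.ResidueField] at h0'
    exact hrp (Ideal.algebraMap_residueField_eq_zero.1 ((map_eq_zero _).1 h0'))
  let x := hU.fromSpec q
  have hxU : x ∈ f ⁻¹ᵁ W.1 := hU.range_fromSpec.le ⟨q, rfl⟩
  have hprime : hU.primeIdealOf ⟨x, hxU⟩ = q :=
    hU.fromSpec.isOpenEmbedding.injective (hU.fromSpec_primeIdealOf _)
  have hfx : f.base x = s := by
    have h1 := IsAffineOpen.comap_primeIdealOf_appLE (f := f) W.1 W.2 (f ⁻¹ᵁ W.1) hU le_rfl hxU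
    rw [hprime] at h1
    have h2 : W.2.primeIdealOf ⟨f x, hxU⟩ = W.2.primeIdealOf ⟨s, hsW⟩ :=
      h1.symm.trans (PrimeSpectrum.ext hcomap)
    have h3 := congrArg W.2.fromSpec h2
    rwa [W.2.fromSpec_primeIdealOf, W.2.fromSpec_primeIdealOf] at h3
  have hgen : closure ({f.asFiber x} : Set (f.fiber (f.base x))) = Set.univ :=
    Set.eq_univ_of_forall fun w => by
      have hw : f (f.fiberι (f x) w) = f x := by
        have : f.fiberι (f x) w ∈ Set.range (f.fiberι (f x)) := ⟨w, rfl⟩
        rwa [f.range_fiberι] at this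
      have hwU : f.fiberι (f x) w ∈ f ⁻¹ᵁ W.1 := by
        show f (f.fiberι (f x) w) ∈ W.1
        rw [hw]; exact hxU
      refine Specializes.mem_closure ?_
      rw [← (f.fiberι (f x)).isEmbedding.isInducing.specializes_iff, f.fiberι_asFiber]
      have hle : q ≤ hU.primeIdealOf ⟨_, hwU⟩ := by
        refine Ideal.map_le_iff_le_comap.2 (le_of_eq ?_)
        have h1 := congrArg PrimeSpectrum.asIdeal
          (IsAffineOpen.comap_primeIdealOf_appLE (f := f) W.1 W.2 (f ⁻¹ᵁ W.1) hU le_rfl hwU)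
        refine Eq.trans ?_ h1.symm
        have key : ∀ (t : S) (ht : t ∈ W.1), t = s → p = (W.2.primeIdealOf ⟨t, ht⟩).asIdeal := by
          rintro t ht rfl; rfl
        exact key _ _ (hw.trans hfx)
      have := ((PrimeSpectrum.le_iff_specializes _ _).1 hle).map hU.fromSpec.continuous
      rwa [hU.fromSpec_primeIdealOf] at this
  have hflx := (EGA43.QcohFlat.isFlatOverAt_iff f F W.2 hU le_rfl hxU).1 (hfl x hfx hgen)
  rw [hprime] at hflx
  have : Module.Flat Γ(S, W.1) (LocalizedModule q.asIdeal.primeCompl Γ(F, f ⁻¹ᵁ W.1)) := hflx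
  have hval : (contSheaf f (Fitt.sheafIdeal F k)).ideal W =
      cont Γ(S, W.1) (Fitt.ideal Γ(X, f ⁻¹ᵁ W.1) Γ(F, f ⁻¹ᵁ W.1) k) :=
    congrArg (cont Γ(S, W.1)) (FlatMor12.FittSheaf.ideal_eq F hT k ⟨_, hU⟩)
  rcases cont_dichotomy (M := Γ(F, f ⁻¹ᵁ W.1)) hdom p k with h | ⟨c, hc, hcz⟩
  · refine absurd ?_ h
    rw [← hval]
    intro d hd
    have hd' := (BlowUpLib.mem_support_iff_le_prm _ W hsW).1 hs hd
    by_contra hdp
    exact (BlowUpLib.mem_prm hsW).1 hd' ((EGA43.InjFibre.mem_basicOpen_iff_notMem W.2 hsW d).2 hdp)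
  · refine ⟨S.basicOpen c, (EGA43.InjFibre.mem_basicOpen_iff_notMem W.2 hsW c).2 hc, ?_⟩
    refine FlatMor12.FittSheaf.eq_bot_of_cover _ fun y => ?_
    let A : S.affineOpens := S.affineBasicOpen c
    have hA' : IsAffineOpen ((S.basicOpen c).ι ⁻¹ᵁ A.1) := A.2.preimage_of_isOpenImmersion _ (by simp [A])
    refine ⟨⟨_, hA'⟩, y.2, ?_⟩
    rw [ProjLib.comap_ideal_eq _ (S.basicOpen c).ι A ⟨_, hA'⟩ le_rfl]
    refine le_bot_iff.1 ((Ideal.map_mono (le_of_eq ?_)).trans_eq Ideal.map_bot)
    rw [← (contSheaf f (Fitt.sheafIdeal F k)).map_ideal_basicOpen W c, Ideal.map_eq_bot_iff_le_ker, hval]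
    intro d hd
    have h0 := congrArg (S.presheaf.map (homOfLE (S.basicOpen_le c)).op).hom (hcz d hd)
    rw [map_mul, map_zero] at h0
    exact (RingedSpace.isUnit_res_basicOpen S.toRingedSpace c).mul_right_eq_zero.1 h0

end Groth.Agent.FlatMorBlowFree
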