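import Groth.Agent.FlatMorAdm.Strict
import Groth.Agent.CAlgH3.FittStrictFree

/-! Sections killed by a power of an ideal are those vanishing off its zero locus. -/

set_option autoImplicit false
set_option backward.isDefEq.respectTransparency.types false

universe u

open CategoryTheory CategoryTheory.Limits AlgebraicGeometry TopologicalSpace Opposite
open Groth.Agent.Coherent
open Groth.Agent.ModPairLib (res res_res)

namespace Groth.Agent.FlatMorBlowFree

open Groth.Agent BlowUpLib

theorem killed_iff {X : Scheme.{u}} (N : X.Modules) [Coh.IsQCoh N] (E : X.IdealSheafData)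
    (hE : BlowUp.IsFiniteTypeIdeal E) (V : X.affineOpens) (m : Γ(N, V.1)) :
    BlowUp.KilledByPowerNear E N V m ↔ resM N (inf_le_left : V.1 ⊓ ModPair.interior E ≤ V.1) m = 0 := by
  set O := ModPair.interior E with hO
  constructor
  · rintro ⟨n, hn⟩
    have hloc : ∀ y : ↥(V.1 ⊓ O), ∃ e : Γ(X, V.1), e ∈ E.ideal V ∧ y.1 ∈ X.basicOpen e := fun y => by
      have hns : y.1 ∉ (E.support : Set X) := y.2.2
      rw [SetLike.mem_coe, Scheme.IdealSheafData.mem_support_iff_of_mem (U := V) y.2.1, Scheme.mem_zeroLocus_iff] at hns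
      simp only [not_forall, not_not] at hns
      obtain ⟨e, he, hey⟩ := hns
      exact ⟨e, he, hey⟩
    choose e he hey using hloc
    refine TopCat.Sheaf.eq_of_locally_eq' ⟨N.presheaf, N.isSheaf⟩
      (fun y : ↥(V.1 ⊓ O) => (V.1 ⊓ O) ⊓ X.basicOpen (e y)) (V.1 ⊓ O)
      (fun y => homOfLE inf_le_left) (fun x hx => Opens.mem_iSup.2 ⟨⟨x, hx⟩, hx, hey ⟨x, hx⟩⟩) _ _ fun y => ?_
    show resM N inf_le_left (resM N inf_le_left m) = resM N inf_le_left 0
    rw [map_zero, resM_resM]
    have hu := isUnit_res_pow (e y) (inf_le_left.trans inf_le_left : (V.1 ⊓ O) ⊓ X.basicOpen (e y) ≤ V.1)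
      inf_le_right n
    have h0 := congrArg (resM N (inf_le_left.trans inf_le_left : (V.1 ⊓ O) ⊓ X.basicOpen (e y) ≤ V.1))
      (hn (e y ^ n) (by rw [Scheme.IdealSheafData.ideal_pow]; exact Ideal.pow_mem_pow (he y) n))
    rw [resM_smul, map_zero] at h0
    exact hu.smul_eq_zero.1 h0
  · intro ha
    obtain ⟨s, hs⟩ := hE V
    have hrad : E.ideal V ≤ (Ideal.torsionOf Γ(X, V.1) Γ(N, V.1) m).radical := by
      rw [← hs, Submodule.span_le]
      intro e he
      have heO : X.basicOpen e ≤ V.1 ⊓ O := fun x hx => ⟨X.basicOpen_le e hx, fun hxs =>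
        (mem_prm (X.basicOpen_le e hx)).1 ((mem_support_iff_le_prm E V (X.basicOpen_le e hx)).1 hxs
          (hs.le (Submodule.subset_span he))) hx⟩
      obtain ⟨n, hn⟩ := qcoh_exists_pow_smul_eq_zero V.2 N e m
        (show resM N (X.basicOpen_le e) m = 0 by
          rw [← resM_resM N (inf_le_left : V.1 ⊓ O ≤ V.1) heO, ha, map_zero])
      exact ⟨n, hn⟩
    obtain ⟨n, hn⟩ := Ideal.exists_pow_le_of_le_radical_of_fg hrad (hE V)
    exact ⟨n, fun e he => hn (by rw [Scheme.IdealSheafData.ideal_pow] at he; exact he)⟩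

end Groth.Agent.FlatMorBlowFree
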