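import Groth.Agent.FlatMorAdm.ExtendLocFree
import Groth.Agent.FlatMorAdm.ExtendOpen
import Groth.Agent.BlowUpCoh.Regular

/-! Splitting off ideals which are locally trivial on an open. -/

set_option autoImplicit false
set_option backward.isDefEq.respectTransparency.types false

universe u

open CategoryTheory Limits AlgebraicGeometry TopologicalSpace
open Groth.Agent.ModPairLib (res res_res)

namespace Groth.Agent.FlatMorBlowFree

open Groth.Agent BlowUpLib

variable {S : Scheme.{u}}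

theorem res_self {U : S.Opens} (h : U ≤ U) (t : Γ(S, U)) : res h t = t := by
  simp [ModPairLib.res]

theorem ideal_eq_bot_of_comap (I : S.IdealSheafData) (V : S.Opens) (h : I.comap V.ι = ⊥) (A : S.affineOpens)
    (hA : A.1 ≤ V) : I.ideal A = ⊥ :=
  (Submodule.eq_bot_iff _).2 fun t ht => by
    have h0 := FlatMorAdm.res_eq_zero_of_comap_eq_bot I V h A ht
    have h1 := congrArg (res (le_inf le_rfl hA : A.1 ≤ A.1 ⊓ V)) h0
    rwa [res_res, res_self, map_zero] at h1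

theorem comap_eq_bot_of_ideal (I : S.IdealSheafData) (V : S.Opens)
    (h : ∀ x ∈ V, ∃ A : S.affineOpens, x ∈ A.1 ∧ A.1 ≤ V ∧ I.ideal A = ⊥) : I.comap V.ι = ⊥ := by
  refine FlatMor12.FittSheaf.eq_bot_of_cover _ fun y => ?_
  obtain ⟨A, hy, hAV, hA⟩ := h y.1 y.2
  have hA' : IsAffineOpen (V.ι ⁻¹ᵁ A.1) := A.2.preimage_of_isOpenImmersion V.ι (by simpa using hAV)
  exact ⟨⟨V.ι ⁻¹ᵁ A.1, hA'⟩, hy, by
    rw [ProjLib.comap_ideal_eq I V.ι A ⟨_, hA'⟩ le_rfl, hA, Ideal.map_bot]⟩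

/-- An ideal locally `0` or `1` on `U` has a finite type complement. -/
theorem exists_compl_ideal [CompactSpace S] [QuasiSeparatedSpace S] (U : S.Opens) (hU : IsCompact (U : Set S))
    (K : S.IdealSheafData)
    (hdich : ∀ x ∈ U, x ∈ (K.support : Set S) → ∃ V : S.Opens, x ∈ V ∧ V ≤ U ∧ K.comap V.ι = ⊥) :
    ∃ T : S.IdealSheafData, BlowUp.IsFiniteTypeIdeal T ∧
      Disjoint ((K ⊔ T).support : Set S) (U : Set S) ∧ (K * T).comap U.ι = ⊥ := by
  have : CompactSpace (U : Scheme.{u}) := isCompact_iff_compactSpace.1 hU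
  have : QuasiCompact U.ι := quasiCompact_of_compactSpace _
  let Z : S.Opens := ⟨(U : Set S) ∩ (K.support : Set S), isOpen_iff_forall_mem_open.2 fun x hx => by
    obtain ⟨V, hxV, hVU, hV⟩ := hdich x hx.1 hx.2
    exact ⟨V, fun y hy => ⟨hVU hy, FlatMorAdm.mem_support_of_comap_eq_bot hV hy⟩, V.2, hxV⟩⟩
  have hZc : IsCompact (Z : Set S) := hU.inter_right K.support.isClosed
  let O : S.Opens := U ⊓ K.support.compl
  let O' : (U : Scheme.{u}).Opens := U.ι ⁻¹ᵁ O
  have hOc : IsCompact (O : Set S) := by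
    have : (O : Set S) = (U : Set S) \ (Z : Set S) := Set.ext fun x =>
      ⟨fun h => ⟨h.1, fun hz => h.2 hz.2⟩, fun h => ⟨h.1, fun hs => h.2 ⟨h.1, hs⟩⟩⟩
    rw [this]
    exact hU.diff Z.2
  have : QuasiCompact O'.ι := by
    have : IsCompact (O' : Set U) := by
      rw [U.ι.isOpenEmbedding.isEmbedding.isCompact_iff,
        show U.ι '' (O' : Set U) = (O : Set S) from by
          rw [show (O' : Set U) = U.ι ⁻¹' (O : Set S) from rfl, Set.image_preimage_eq_of_subset]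
          rw [Scheme.Opens.range_ι]
          exact fun x hx => hx.1]
      exact hOc
    have : CompactSpace (O' : Scheme.{u}) := isCompact_iff_compactSpace.1 this
    have : QuasiSeparatedSpace (U : Scheme.{u}) := QuasiSeparatedSpace.of_isOpenEmbedding U.ι.isOpenEmbedding
    exact quasiCompact_of_compactSpace _
  let J := O'.ι.ker
  have hJO : J.comap O'.ι = ⊥ := FlatMorAdm.ker_ι_comap O'
  have hdisj : Disjoint (O' : Set U) (U.ι ⁻¹ᵁ Z : (U : Scheme.{u}).Opens) :=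
    Set.disjoint_left.2 fun x h1 h2 => h1.2 h2.2
  have hJZ : Disjoint (J.support : Set U) (U.ι ⁻¹ᵁ Z : (U : Scheme.{u}).Opens) :=
    FlatMorAdm.disjoint_support_ker_ι O' _ hdisj
  have hcases : ∀ x : (U : Scheme.{u}), x ∈ O' ∨ x ∈ U.ι ⁻¹ᵁ Z := fun x => by
    by_cases h : x.1 ∈ (K.support : Set S)
    · exact Or.inr ⟨x.2, h⟩
    · exact Or.inl ⟨x.2, h⟩
  have hJ : BlowUp.IsFiniteTypeIdeal J := by
    have hloc : ∀ x : (U : Scheme.{u}), ∃ A : (U : Scheme.{u}).affineOpens, x ∈ A.1 ∧ (J.ideal A).FG := fun x => by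
      rcases hcases x with h | h
      · obtain ⟨A, hxA, hA⟩ := exists_affine_mem_le h
        exact ⟨A, hxA, by rw [ideal_eq_bot_of_comap J O' hJO A hA]; exact Submodule.fg_bot⟩
      · obtain ⟨A, hxA, hA⟩ := exists_affine_mem_le h
        refine ⟨A, hxA, ?_⟩
        rw [BlowUpCoh.ideal_eq_top_of_disjoint (I := J) A fun y hy hys => Set.disjoint_left.1 hJZ hys (hA hy)]
        exact ⟨{1}, by simp⟩
    choose A hxA hfg using hloc
    exact fun W => FlatMorStrata.fg_of_cover _ A (top_le_iff.1 fun y _ => Opens.mem_iSup.2 ⟨y, hxA y⟩) hfg W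
  obtain ⟨T, hT, hTU⟩ := FlatMorAdm.exists_extend_admissible U.ι Z hZc J ⟨hJ, hJZ⟩
  refine ⟨T, hT.1, Set.disjoint_left.2 fun x hx hxU => ?_, ?_⟩
  · rw [Scheme.IdealSheafData.support_sup] at hx
    exact Set.disjoint_left.1 hT.2 hx.2 ⟨hxU, hx.1⟩
  · refine comap_eq_bot_of_ideal _ U fun x hx => ?_
    rcases hcases ⟨x, hx⟩ with h | h
    · obtain ⟨A, hxA, hA⟩ := exists_affine_mem_le (show x ∈ O from h)
      refine ⟨A, hxA, hA.trans inf_le_left, ?_⟩
      have hT0 : T.comap O.ι = ⊥ := by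
        refine comap_eq_bot_of_ideal _ O fun y hy => ?_
        obtain ⟨B, hyB, hB⟩ := exists_affine_mem_le hy
        refine ⟨B, hyB, hB, ?_⟩
        have hB' : IsAffineOpen (U.ι ⁻¹ᵁ B.1) :=
          B.2.preimage_of_isOpenImmersion U.ι (by simpa using hB.trans inf_le_left)
        have h0 : (T.comap U.ι).ideal ⟨_, hB'⟩ = ⊥ := by
          rw [hTU]; exact ideal_eq_bot_of_comap J O' hJO _ (U.ι.preimage_mono hB)
        rw [ProjLib.comap_ideal_eq T U.ι B ⟨_, hB'⟩ le_rfl, Ideal.map_eq_bot_iff_le_ker] at h0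
        refine (Submodule.eq_bot_iff _).2 fun t ht => ?_
        have h1 : (U.ι.appLE B.1 (U.ι ⁻¹ᵁ B.1) le_rfl).hom t = 0 := h0 ht
        rw [← Scheme.Hom.app_eq_appLE, Scheme.Opens.ι_app] at h1
        have hle : B.1 ≤ U.ι ''ᵁ U.ι ⁻¹ᵁ B.1 := fun z hz => ⟨⟨z, (hB hz).1⟩, hz, rfl⟩
        have h2 := congrArg (res hle) h1
        erw [map_zero] at h2
        refine Eq.trans ?_ h2
        exact ((res_res (U.ι.image_preimage_le B.1) hle t).trans (by rw [res_self])).symm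
      rw [Scheme.IdealSheafData.ideal_mul, Pi.mul_apply, ideal_eq_bot_of_comap T O hT0 A hA, Submodule.mul_bot]
    · obtain ⟨V, hxV, hVU, hV⟩ := hdich x hx h.2
      obtain ⟨A, hxA, hA⟩ := exists_affine_mem_le hxV
      refine ⟨A, hxA, hA.trans hVU, ?_⟩
      rw [Scheme.IdealSheafData.ideal_mul, Pi.mul_apply, ideal_eq_bot_of_comap K V hV A hA, Submodule.bot_mul]

/-- Where the sum of two ideals with product vanishing on a dense open is invertible, one of them is zero. -/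
theorem bot_or_principal {X : Scheme.{u}} {D : X.Opens} (hD : ModPairLib.IsDenseOpen D) (K T : X.IdealSheafData)
    (hKT : (K * T).comap D.ι = ⊥) (hP : BlowUp.IsEffCartierIdeal (K ⊔ T)) (x : X) :
    ∃ V : X.affineOpens, x ∈ V.1 ∧ (K.ideal V = ⊥ ∨
      T.ideal V = ⊥ ∧ ∃ a ∈ nonZeroDivisors Γ(X, V.1), K.ideal V = Ideal.span {a}) := by
  obtain ⟨W, hxW, a, ha, haI⟩ := hP x
  rw [Scheme.IdealSheafData.ideal_sup, Pi.sup_apply] at haI
  obtain ⟨t, ht, t', ht', htt⟩ := Submodule.mem_sup.1 (haI.ge (Ideal.mem_span_singleton_self a))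
  obtain ⟨α, hα⟩ := Ideal.mem_span_singleton'.1 (haI.le (Submodule.mem_sup_left ht))
  obtain ⟨α', hα'⟩ := Ideal.mem_span_singleton'.1 (haI.le (Submodule.mem_sup_right ht'))
  have h1 : α + α' = 1 := (mul_cancel_right_mem_nonZeroDivisors ha).1 (by rw [add_mul, hα, hα', htt, one_mul])
  have hzero : ∀ s ∈ K.ideal W, ∀ s' ∈ T.ideal W, s * s' = 0 := fun s hs s' hs' => by
    refine hD W.1 _ (FlatMorAdm.res_eq_zero_of_comap_eq_bot (K * T) D hKT W ?_)
    rw [Scheme.IdealSheafData.ideal_mul, Pi.mul_apply]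
    exact Ideal.mul_mem_mul hs hs'
  let p := (W.2.primeIdealOf ⟨x, hxW⟩).asIdeal
  have hp : p.IsPrime := (W.2.primeIdealOf ⟨x, hxW⟩).isPrime
  have key : ∀ (w : Γ(X, W.1)), w ∉ p → ∀ I J : X.IdealSheafData,
      I.ideal W ≤ Ideal.span {a} → w * a ∈ I.ideal W → (∀ s ∈ I.ideal W, ∀ s' ∈ J.ideal W, s * s' = 0) →
      ∃ V : X.affineOpens, x ∈ V.1 ∧ J.ideal V = ⊥ ∧ ∃ c ∈ nonZeroDivisors Γ(X, V.1), I.ideal V = Ideal.span {c} := by
    intro w hw I J hI hwI hz
    let V : X.affineOpens := ⟨X.basicOpen w, W.2.basicOpen w⟩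
    have hu : IsUnit (res (X.basicOpen_le w) w) := RingedSpace.isUnit_res_basicOpen X.toRingedSpace w
    have hreg := ModPairLib.res_mem_nonZeroDivisors (V := V) (X.basicOpen_le w) ha
    refine ⟨V, (EGA43.InjFibre.mem_basicOpen_iff_notMem W.2 hxW w).2 hw, ?_, res (X.basicOpen_le w) a, hreg, ?_⟩
    · rw [← J.map_ideal (U := V) (V := W) (X.basicOpen_le w), eq_bot_iff, Ideal.map_le_iff_le_comap]
      intro s' hs'
      rw [Ideal.mem_comap, Ideal.mem_bot]
      have h0 := congrArg (res (X.basicOpen_le w)) (hz _ hwI s' hs')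
      rw [map_zero, map_mul, map_mul, mul_assoc] at h0
      exact (mul_right_mem_nonZeroDivisors_eq_zero_iff hreg).1 ((mul_comm _ _).trans ((hu.mul_right_eq_zero).1 h0))
    · rw [← I.map_ideal (U := V) (V := W) (X.basicOpen_le w)]
      refine le_antisymm ((Ideal.map_mono hI).trans (le_of_eq ?_)) ((Ideal.span_singleton_le_iff_mem _).2 ?_)
      · rw [Ideal.map_span, Set.image_singleton]; rfl
      · obtain ⟨v, hv⟩ := hu.exists_left_inv
        have := Ideal.mul_mem_left _ v (Ideal.mem_map_of_mem (X.presheaf.map (homOfLE (X.basicOpen_le w)).op).hom hwI)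
        rw [map_mul, ← mul_assoc] at this
        rwa [show v * (X.presheaf.map (homOfLE (X.basicOpen_le w)).op).hom w = 1 from hv, one_mul] at this
  by_cases hu : α ∈ p
  · have hu' : α' ∉ p := fun h => hp.ne_top ((Ideal.eq_top_iff_one p).2 (h1 ▸ add_mem hu h))
    obtain ⟨V, hxV, hV, -⟩ := key α' hu' T K (le_sup_right.trans haI.le) (hα' ▸ ht')
      (fun s hs s' hs' => by rw [mul_comm]; exact hzero s' hs' s hs)
    exact ⟨V, hxV, Or.inl hV⟩
  · obtain ⟨V, hxV, hV0, hV⟩ := key α hu K T (le_sup_left.trans haI.le) (hα ▸ ht) hzero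
    exact ⟨V, hxV, Or.inr ⟨hV0, hV⟩⟩

end Groth.Agent.FlatMorBlowFree
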