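import Groth.Agent.FlatMorBlowFree.LocalFree
import Groth.Agent.FlatMorBlowFree.Killed
import Groth.Agent.FlatMorBlowFree.Split
import Groth.Agent.FlatMorBlowFree.Dichotomy
import Groth.Agent.FlatMorAdm.LocFreeApps
import Groth.Agent.Props12.FPColimit
import Groth.Agent.H8Lim.ModEq
import Groth.Agent.EGA43.DvrCrit.Main
import Groth.Agent.Coherent.CohBC.TwistStrata

/-! Strict transforms become free near all fibres after an admissible blow-up. -/

set_option autoImplicit false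
set_option backward.isDefEq.respectTransparency.types false

universe u

open CategoryTheory CategoryTheory.Limits AlgebraicGeometry TopologicalSpace
open Groth.Agent.Coherent

namespace Groth.Agent.FlatMorBlowFree

open Groth.Agent

variable {X : Scheme.{u}}

theorem app_injective_of_isIso {M N : X.Modules} (φ : M ⟶ N) (V : X.Opens)
    [IsIso ((Scheme.Modules.restrictFunctor V.ι).map φ)] {P : X.Opens} (hP : P ≤ V) :
    Function.Injective (φ.app P) := by
  refine (injective_iff_map_eq_zero _).2 fun m hm => ?_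
  have hle : V.ι ''ᵁ V.ι ⁻¹ᵁ P ≤ P := V.ι.image_preimage_le P
  have hge : P ≤ V.ι ''ᵁ V.ι ⁻¹ᵁ P := fun y hy => ⟨⟨y, hP hy⟩, hy, rfl⟩
  have hinj : Function.Injective (φ.app (V.ι ''ᵁ V.ι ⁻¹ᵁ P)) :=
    app_injective_of_mono ((Scheme.Modules.restrictFunctor V.ι).map φ) (V.ι ⁻¹ᵁ P)
  have h0 : resM M hle m = 0 := hinj (by rw [app_resM, hm, map_zero, map_zero])
  have h1 := congrArg (resM M hge) h0
  rwa [resM_resM, resM_refl, map_zero] at h1

theorem isIso_restrict_pullback {Y : Scheme.{u}} {M N : X.Modules} (φ : M ⟶ N) (p : Y ⟶ X) (V : X.Opens)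
    [IsIso ((Scheme.Modules.restrictFunctor V.ι).map φ)] :
    IsIso ((Scheme.Modules.restrictFunctor (p ⁻¹ᵁ V).ι).map ((Scheme.Modules.pullback p).map φ)) := by
  have h1 : IsIso ((Scheme.Modules.pullback V.ι).map φ) :=
    (NatIso.isIso_map_iff (Scheme.Modules.restrictFunctorIsoPullback V.ι) φ).1 inferInstance
  rw [NatIso.isIso_map_iff (Scheme.Modules.restrictFunctorIsoPullback (p ⁻¹ᵁ V).ι)]
  have h2 : IsIso ((Scheme.Modules.pullback V.ι ⋙ Scheme.Modules.pullback (p ∣_ V)).map φ) := by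
    rw [Functor.comp_map]; infer_instance
  exact (NatIso.isIso_map_iff ((Scheme.Modules.pullbackComp (p ∣_ V) V.ι) ≪≫
    Scheme.Modules.pullbackCongr (morphismRestrict_ι p V) ≪≫
    (Scheme.Modules.pullbackComp (p ⁻¹ᵁ V).ι p).symm) φ).1 h2

/-- A finite type module is a quotient of a finitely presented one, isomorphic where it is finitely presented. -/
theorem exists_fp_approx [CompactSpace X] [QuasiSeparatedSpace X] (F : X.Modules) [Coh.IsQCoh F]
    (hft : CohB1.IsFT F) (V : X.Opens) (hV : IsCompact (V : Set X))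
    (hfp : CohB1.IsFP ((Scheme.Modules.pullback V.ι).obj F)) :
    ∃ (G : X.Modules) (φ : G ⟶ F), Coh.IsQCoh G ∧ CohB1.IsFP G ∧ Epi φ ∧
      IsIso ((Scheme.Modules.restrictFunctor V.ι).map φ) := by
  obtain ⟨P, p, hPq, hP, hp⟩ := Props12.FPColimit.exists_epi F hft
  have hPT := CAlgSmall.FPExtend.isFT_of_isFP P hP
  let K := kernel p
  have hKq : Coh.IsQCoh K := isQCoh_kernel p
  let R := Scheme.Modules.restrictFunctor V.ι
  have : Coh.IsQCoh ((Scheme.Modules.pullback V.ι).obj P) := EGA43.InjFibre.isQCoh_pullback _ P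
  have : Coh.IsQCoh ((Scheme.Modules.pullback V.ι).obj F) := EGA43.InjFibre.isQCoh_pullback _ F
  let e := Scheme.Modules.restrictFunctorIsoPullback V.ι
  have hker : CohB1.IsFT (K.restrict V.ι) := by
    have hkT := H8Lim.isFT_kernel_of_fp ((Scheme.Modules.pullback V.ι).map p)
      (isFT_pullback_qcoh _ (F := P) hPq hPT) hfp
    let i1 : K.restrict V.ι ≅ kernel (R.map p) := PreservesKernel.iso R p
    let i2 : kernel (R.map p) ≅ kernel ((Scheme.Modules.pullback V.ι).map p) :=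
      kernel.mapIso _ _ (e.app P) (e.app F) (e.hom.naturality p)
    exact isFT_of_epi (i2.inv ≫ i1.inv) hkT
  obtain ⟨K', i', eK, -, hK'q, hK'T, heK⟩ := exists_finiteType_extension_qcqs (F := K) V (𝟙 (K.restrict V.ι)) hker hV
  refine ⟨cokernel (i' ≫ kernel.ι p), cokernel.desc _ p (by rw [Category.assoc, kernel.condition, comp_zero]),
    isQCoh_cokernel _, H8Lim.isFP_cokernel _ hK'T hP, ?_, ?_⟩
  · have : Epi (cokernel.π (i' ≫ kernel.ι p) ≫ cokernel.desc (i' ≫ kernel.ι p) p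
        (by rw [Category.assoc, kernel.condition, comp_zero])) := by rw [cokernel.π_desc]; infer_instance
    exact epi_of_epi (cokernel.π (i' ≫ kernel.ι p)) _
  · let ψ := cokernel.desc (i' ≫ kernel.ι p) p (by rw [Category.assoc, kernel.condition, comp_zero])
    let π := cokernel.π (i' ≫ kernel.ι p)
    have hiso : IsIso (R.map i') := by
      rw [← heK, Category.comp_id]; infer_instance
    have h0 : R.map (kernel.ι p) ≫ R.map π = 0 := by
      rw [← cancel_epi (R.map i'), comp_zero, ← R.map_comp, ← R.map_comp, ← Category.assoc,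
        cokernel.condition, R.map_zero]
    have hk : kernel.ι (R.map p) ≫ R.map π = 0 := by
      rw [← cancel_epi (PreservesKernel.iso R p).hom, comp_zero, ← Category.assoc, PreservesKernel.iso_hom,
        kernelComparison_comp_ι, h0]
    have hψ : R.map π ≫ R.map ψ = R.map p := by rw [← R.map_comp, cokernel.π_desc]
    let d := Abelian.epiDesc (R.map p) (R.map π) hk
    have hd : R.map ψ ≫ d = 𝟙 _ := by
      rw [← cancel_epi (R.map π), ← Category.assoc, hψ, Abelian.comp_epiDesc, Category.comp_id]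
    refine ⟨d, hd, ?_⟩
    rw [← cancel_epi (R.map p), ← Category.assoc, Abelian.comp_epiDesc, hψ, Category.comp_id]

/-- Product of finite type ideals, with the factors containing it. -/
theorem exists_prod' {ι : Type*} (s : Finset ι) (G : ι → X.IdealSheafData)
    (hG : ∀ i ∈ s, BlowUp.IsFiniteTypeIdeal (G i)) :
    ∃ K : X.IdealSheafData, BlowUp.IsFiniteTypeIdeal K ∧
      (∀ x ∈ (K.support : Set X), ∃ i ∈ s, x ∈ ((G i).support : Set X)) ∧ (∀ i ∈ s, K ≤ G i) ∧
      ∀ (X' : Scheme.{u}) (c : X' ⟶ X), BlowUp.IsEffCartierIdeal (K.comap c) →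
        ∀ i ∈ s, BlowUp.IsEffCartierIdeal ((G i).comap c) := by
  classical
  induction s using Finset.induction with
  | empty =>
    refine ⟨⊤, fun W => ?_, fun x hx => ?_, fun i hi => absurd hi (Finset.notMem_empty i),
      fun _ _ _ i hi => absurd hi (Finset.notMem_empty i)⟩
    · rw [Scheme.IdealSheafData.ideal_top, Pi.top_apply]
      exact ⟨{1}, by simp⟩
    · rw [Scheme.IdealSheafData.support_top] at hx
      exact hx.elim
  | @insert a s _ ih =>
    obtain ⟨K, hK, hKs, hKle, hKc⟩ := ih fun i hi => hG i (Finset.mem_insert_of_mem hi)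
    refine ⟨G a * K, fun W => ?_, fun x hx => ?_, fun i hi W => ?_, fun X' c hc i hi => ?_⟩
    · rw [Scheme.IdealSheafData.ideal_mul, Pi.mul_apply]
      exact (hG a (Finset.mem_insert_self _ _) W).mul (hK W)
    · rw [Scheme.IdealSheafData.support_mul] at hx
      rcases hx with h | h
      · exact ⟨a, Finset.mem_insert_self _ _, h⟩
      · obtain ⟨i, hi, hx⟩ := hKs x h
        exact ⟨i, Finset.mem_insert_of_mem hi, hx⟩
    · rw [Scheme.IdealSheafData.ideal_mul, Pi.mul_apply]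
      rcases Finset.mem_insert.1 hi with rfl | hi
      · exact Ideal.mul_le_left
      · exact Ideal.mul_le_right.trans (hKle i hi W)
    · rw [ModPairLib.comap_mul] at hc
      rcases Finset.mem_insert.1 hi with rfl | hi
      · exact SDiv28.isEffCartier_left_of_mul hc
      · exact hKc X' c (SDiv28.isEffCartier_right_of_mul hc) i hi

theorem comap_map_eq {R S : Type u} [CommRing R] [CommRing S] [Algebra R S]
    (hdom : FlatMorDevissage.FibresDomain R S) (p : Ideal R) [p.IsPrime] :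
    (p.map (algebraMap R S)).comap (algebraMap R S) = p := by
  refine le_antisymm (fun r hr => ?_) Ideal.le_comap_map
  by_contra hrp
  have := hdom p.ResidueField
  let g : S →ₐ[R] TensorProduct R p.ResidueField S := Algebra.TensorProduct.includeRight
  have hle : p.map (algebraMap R S) ≤ RingHom.ker g.toRingHom := Ideal.map_le_iff_le_comap.2 fun c hc => by
    show g (algebraMap R S c) = 0
    rw [AlgHom.commutes, IsScalarTower.algebraMap_apply R p.ResidueField,
      Ideal.algebraMap_residueField_eq_zero.2 hc, map_zero]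
  have h0 : g (algebraMap R S r) = 0 := hle hr
  rw [AlgHom.commutes, IsScalarTower.algebraMap_apply R p.ResidueField] at h0
  exact hrp (Ideal.algebraMap_residueField_eq_zero.1 ((map_eq_zero _).1 h0))

/-- The union of the opens where a module is free. -/
theorem exists_max_free (G : X.Modules) :
    ∃ V : X.Opens, FlatMod.IsFinLocFree (G.restrict V.ι) ∧
      ∀ (O : X.Opens) (n : ℕ), Nonempty (G.restrict O.ι ≅ FlatMod.freeMod (↑O) n) → O ≤ V := by
  let V : X.Opens := ⨆ (O : X.Opens) (_ : ∃ n, Nonempty (G.restrict O.ι ≅ FlatMod.freeMod (↑O) n)), O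
  refine ⟨V, fun y => ?_, fun O n h => le_iSup₂ (f := fun O _ => O) O ⟨n, h⟩⟩
  obtain ⟨O, ⟨n, ⟨e⟩⟩, hy⟩ :
      ∃ O : X.Opens, (∃ n, Nonempty (G.restrict O.ι ≅ FlatMod.freeMod (↑O) n)) ∧ y.1 ∈ O := by
    have := y.2
    simp only [V, Opens.mem_iSup] at this
    obtain ⟨O, hO, hy⟩ := this
    exact ⟨O, hO, hy⟩
  refine ⟨V.ι ⁻¹ᵁ O, n, hy, ⟨?_⟩⟩
  exact ((Scheme.Modules.restrictFunctorComp (V.ι ⁻¹ᵁ O).ι V.ι).symm ≪≫
      Scheme.Modules.restrictFunctorCongr (morphismRestrict_ι V.ι O).symm ≪≫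
      Scheme.Modules.restrictFunctorComp (V.ι ∣_ O) O.ι).app G ≪≫
    (Scheme.Modules.restrictFunctor (V.ι ∣_ O)).mapIso e ≪≫ CohBC.freeModRestrictIso (V.ι ∣_ O) n

variable {S : Scheme.{u}} (f : X ⟶ S) [IsAffineHom f] [LocallyOfFinitePresentation f] [Flat f]
  [GeometricallyIntegral f]

theorem exists_bound [CompactSpace S] (G : X.Modules) [Coh.IsQCoh G] (hG : CohB1.IsFT G) :
    ∃ N : ℕ, contSheaf f (Fitt.sheafIdeal G N) = ⊤ := by
  have hW : ∀ W : S.affineOpens, ∃ n : ℕ, ∀ k, n ≤ k → (contSheaf f (Fitt.sheafIdeal G k)).ideal W = ⊤ := fun W => by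
    obtain ⟨hproj, -, hdom⟩ := affine_facts f W.2
    let _ := (f.appLE W.1 (f ⁻¹ᵁ W.1) le_rfl).hom.toAlgebra
    have := FlatMor12.FittSheaf.finite_affine G hG ⟨_, W.2.preimage f⟩
    obtain ⟨n, x, hx⟩ := FittLib.exists_generators Γ(X, f ⁻¹ᵁ W.1) Γ(G, f ⁻¹ᵁ W.1)
    refine ⟨n, fun k hk => ?_⟩
    show cont Γ(S, W.1) ((Fitt.sheafIdeal G k).ideal ⟨_, W.2.preimage f⟩) = ⊤
    rw [FlatMor12.FittSheaf.ideal_eq G hG k ⟨_, W.2.preimage f⟩,
      FittLib.ideal_eq_top_of_span x hx hk]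
    exact cont_top hdom
  choose n hn using hW
  obtain ⟨t, ht⟩ := isCompact_univ.elim_finite_subcover (fun W : S.affineOpens => (W.1 : Set S))
    (fun W => W.1.2) (fun x _ => by
      obtain ⟨W, hxW, -⟩ := BlowUpLib.exists_affine_mem_le (show x ∈ (⊤ : S.Opens) from trivial)
      exact Set.mem_iUnion.2 ⟨W, hxW⟩)
  refine ⟨t.sup n, FlatMor12.FittSheaf.eq_top_of_cover _ fun x => ?_⟩
  obtain ⟨W, hWt, hxW⟩ := Set.mem_iUnion₂.1 (ht (Set.mem_univ x))
  exact ⟨W, hxW, hn W _ (Finset.le_sup hWt)⟩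

set_option maxHeartbeats 1600000 in
theorem main [CompactSpace S] [QuasiSeparatedSpace S] (U : S.Opens) (hU : IsCompact (U : Set S))
    (F : X.Modules) [Coh.IsQCoh F] (hft : CohB1.IsFT F)
    (hfpU : CohB1.IsFP ((Scheme.Modules.pullback (f ⁻¹ᵁ U).ι).obj F))
    (hflU : ∀ x : X, f.base x ∈ U → closure ({f.asFiber x} : Set (f.fiber (f.base x))) = Set.univ →
      FlatMod.IsFlatOverAt f F x) :
    ∃ (𝓘 : S.IdealSheafData) (S' : Scheme.{u}) (b : S' ⟶ S), BlowUp.IsBlowUp b 𝓘 ∧ BlowUp.IsAdmissibleFor U 𝓘 ∧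
      ∀ (X' : Scheme.{u}) (p₁ : X' ⟶ X) (p₂ : X' ⟶ S'), IsPullback p₁ p₂ f b →
      ∀ (G : X'.Modules) (π : (Scheme.Modules.pullback p₁).obj F ⟶ G), BlowUp.IsStrictTransform p₁ (𝓘.comap f) F G π →
        ∃ V : X'.Opens, FlatMod.IsFinLocFree ((Scheme.Modules.pullback V.ι).obj G) ∧ Function.Surjective (V.ι ≫ p₂).base := by
  classical
  have : CompactSpace X := QuasiCompact.compactSpace_of_compactSpace f
  have : QuasiSeparatedSpace X := quasiSeparatedSpace_of_quasiSeparated f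
  obtain ⟨G₀, φ, hG₀q, hG₀, hφ, hφiso⟩ :=
    exists_fp_approx F hft (f ⁻¹ᵁ U) (f.isCompact_preimage hU) hfpU
  have hG₀T := CAlgSmall.FPExtend.isFT_of_isFP G₀ hG₀
  have hflG : ∀ x : X, f.base x ∈ U → closure ({f.asFiber x} : Set (f.fiber (f.base x))) = Set.univ →
      FlatMod.IsFlatOverAt f G₀ x := fun x hx hgen => by
    let V := f ⁻¹ᵁ U
    have hw : V.ι ≫ f = (V.ι ≫ f) ≫ 𝟙 S := (Category.comp_id _).symm
    have h1 := (Coherent.CohBC.isFlatOverAt_restrict_iff hw F ⟨x, hx⟩).2 (hflU x hx hgen)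
    have : IsIso ((Scheme.Modules.pullback V.ι).map φ) :=
      (NatIso.isIso_map_iff (Scheme.Modules.restrictFunctorIsoPullback V.ι) φ).1 hφiso
    exact (Coherent.CohBC.isFlatOverAt_restrict_iff hw G₀ ⟨x, hx⟩).1
      (EGA43.DvrCrit.isFlatOverAt_of_iso _ (asIso ((Scheme.Modules.pullback V.ι).map φ)).symm ⟨x, hx⟩ h1)
  let K : ℕ → S.IdealSheafData := fun k => contSheaf f (Fitt.sheafIdeal G₀ k)
  have hKfg : ∀ k, BlowUp.IsFiniteTypeIdeal (K k) := fun k =>
    contSheaf_fg f (FlatMor12.FittSheaf.isFiniteTypeIdeal G₀ hG₀ k)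
  have hdich : ∀ k, ∀ s ∈ U, s ∈ ((K k).support : Set S) → ∃ V : S.Opens, s ∈ V ∧ V ≤ U ∧ (K k).comap V.ι = ⊥ := by
    intro k s hsU hs
    obtain ⟨V, hsV, hV⟩ := contSheaf_dichotomy f G₀ hG₀ k s
      (fun x hx hgen => hflG x (hx ▸ hsU) hgen) hs
    refine ⟨V ⊓ U, ⟨hsV, hsU⟩, inf_le_right, ?_⟩
    rw [FlatMorAdm.comap_opens_of_le (K k) (inf_le_left : V ⊓ U ≤ V) hV, Scheme.IdealSheafData.comap_bot]
  choose T hTfg hTd hTK using fun k => exists_compl_ideal U hU (K k) (hdich k)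
  obtain ⟨N, hN⟩ := exists_bound f G₀ hG₀T
  obtain ⟨Pr, hPr, hPrs, hPrle, hPrc⟩ := exists_prod' (Finset.range (N + 1)) (fun k => K k ⊔ T k) fun k _ W => by
    rw [Scheme.IdealSheafData.ideal_sup, Pi.sup_apply]
    exact Submodule.FG.sup (hKfg k W) (hTfg k W)
  obtain ⟨Z, hZ, hZs⟩ := BlowUpLib.exists_finiteType_support_eq ((U : Set S)ᶜ) U.2.isClosed_compl
    (by rwa [compl_compl])
  set I := Z * Pr with hI
  have hIs : (I.support : Set S) = (U : Set S)ᶜ := by
    rw [hI, Scheme.IdealSheafData.support_mul]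
    refine Set.Subset.antisymm ?_ fun x hx => Or.inl (hZs.ge hx)
    rintro x (hx | hx)
    · exact hZs.le hx
    · obtain ⟨k, -, hk⟩ := hPrs x hx
      exact fun h => Set.disjoint_left.1 (hTd k) hk h
  have hIfg : BlowUp.IsFiniteTypeIdeal I := fun W => by
    rw [hI, Scheme.IdealSheafData.ideal_mul, Pi.mul_apply]
    exact (hZ W).mul (hPr W)
  obtain ⟨S', b, hb⟩ := BlowUpLib.exists_isBlowUp (I := I)
  refine ⟨I, S', b, hb, ⟨hIfg, by rw [hIs]; exact disjoint_compl_left⟩, ?_⟩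
  intro X' p₁ p₂ H G π hG
  have hπ : Epi π := hG.1
  obtain ⟨V, hVfree, hVmax⟩ := exists_max_free G
  refine ⟨V, FlatMorAdm.isFinLocFree_of_iso ((Scheme.Modules.restrictFunctorIsoPullback V.ι).app G) hVfree, ?_⟩
  intro s'
  -- the centre on `S'`
  have hD : ModPairLib.IsDenseOpen (b ⁻¹ᵁ U) := by
    refine (ModPairLib.isDenseOpen_interior hb.1).mono fun y hy => ?_
    have : y ∉ ((I.comap b).support : Set S') := hy
    rw [Scheme.IdealSheafData.support_comap] at this
    by_contra h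
    exact this (show b y ∈ (I.support : Set S) by rw [hIs]; exact h)
  have hPrb : BlowUp.IsEffCartierIdeal (Pr.comap b) := by
    have := hb.1
    rw [hI, ModPairLib.comap_mul] at this
    exact SDiv28.isEffCartier_right_of_mul this
  have hsplit : ∀ k ∈ Finset.range (N + 1), ∃ V : S'.affineOpens, s' ∈ V.1 ∧ (((K k).comap b).ideal V = ⊥ ∨
      ((T k).comap b).ideal V = ⊥ ∧ ∃ a ∈ nonZeroDivisors Γ(S', V.1), ((K k).comap b).ideal V = Ideal.span {a}) := by
    intro k hk
    refine bot_or_principal hD ((K k).comap b) ((T k).comap b) ?_ ?_ s'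
    · rw [← ModPairLib.comap_mul, ← Scheme.IdealSheafData.comap_comp, ← morphismRestrict_ι,
        Scheme.IdealSheafData.comap_comp, hTK k, Scheme.IdealSheafData.comap_bot]
    · rw [← Scheme.IdealSheafData.comap_sup]
      exact hPrc S' b hPrb k hk
  have : Nonempty S'.affineOpens := ⟨(hsplit N (Finset.mem_range.2 (Nat.lt_succ_self N))).choose⟩
  choose! Vk hVk hVkK using hsplit
  obtain ⟨W, hsW, -⟩ := BlowUpLib.exists_affine_mem_le (show b s' ∈ (⊤ : S.Opens) from trivial)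
  obtain ⟨E₀, hsE, e₀, he₀, hE₀⟩ := hb.1 s'
  let O : S'.Opens := (Finset.range (N + 1)).inf (fun k => (Vk k).1) ⊓ (b ⁻¹ᵁ W.1 ⊓ E₀.1)
  have hsO : s' ∈ O := by
    refine ⟨?_, hsW, hsE⟩
    have : ∀ t : Finset ℕ, (∀ k ∈ t, s' ∈ (Vk k).1) → s' ∈ t.inf (fun k => (Vk k).1) := by
      intro t
      induction t using Finset.induction with
      | empty => intro _; simp
      | @insert a t _ ih =>
        intro h
        rw [Finset.inf_insert]
        exact ⟨h a (Finset.mem_insert_self _ _), ih fun k hk => h k (Finset.mem_insert_of_mem hk)⟩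
    exact this _ hVk
  obtain ⟨W', hsW', hW'⟩ := BlowUpLib.exists_affine_mem_le hsO
  have eW : W'.1 ≤ b ⁻¹ᵁ W.1 := hW'.trans (inf_le_right.trans inf_le_left)
  have eE : W'.1 ≤ E₀.1 := hW'.trans (inf_le_right.trans inf_le_right)
  set e := ModPairLib.res eE e₀ with he_def
  have he : e ∈ nonZeroDivisors Γ(S', W'.1) := ModPairLib.res_mem_nonZeroDivisors (V := W') eE he₀
  have hmapspan : ∀ (J : S'.IdealSheafData) (A : S'.affineOpens) (hA : W'.1 ≤ A.1) (c : Γ(S', A.1)),
      J.ideal A = Ideal.span {c} → J.ideal W' = Ideal.span {ModPairLib.res hA c} := fun J A hA c hc => by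
    rw [← J.map_ideal (U := W') (V := A) hA, hc, Ideal.map_span, Set.image_singleton]
    rfl
  have hmapbot : ∀ (J : S'.IdealSheafData) (A : S'.affineOpens) (hA : W'.1 ≤ A.1),
      J.ideal A = ⊥ → J.ideal W' = ⊥ := fun J A hA hc => by
    rw [← J.map_ideal (U := W') (V := A) hA, hc, Ideal.map_bot]
  have heI : (I.comap b).ideal W' = Ideal.span {e} := hmapspan _ E₀ eE e₀ hE₀
  have hK' : ∀ k ∈ Finset.range (N + 1), ((K k).comap b).ideal W' = ⊥ ∨
      ∃ a ∈ nonZeroDivisors Γ(S', W'.1), ((K k).comap b).ideal W' = Ideal.span {a} ∧ a ∣ e := by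
    intro k hk
    have hA : W'.1 ≤ (Vk k).1 := hW'.trans (inf_le_left.trans (Finset.inf_le hk))
    rcases hVkK k hk with h | ⟨hT0, a, ha, hKa⟩
    · exact Or.inl (hmapbot _ _ hA h)
    · refine Or.inr ⟨_, ModPairLib.res_mem_nonZeroDivisors (V := W') hA ha, hmapspan _ _ hA a hKa, ?_⟩
      rw [← Ideal.mem_span_singleton, ← hmapspan _ _ hA a hKa]
      have hle : (I.comap b).ideal W' ≤ ((K k).comap b ⊔ (T k).comap b).ideal W' := by
        rw [← Scheme.IdealSheafData.comap_sup]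
        refine Scheme.IdealSheafData.comap_mono b (fun A => ?_) W'
        rw [hI, Scheme.IdealSheafData.ideal_mul, Pi.mul_apply]
        exact Ideal.mul_le_right.trans (hPrle k hk A)
      have := hle (heI ▸ Ideal.mem_span_singleton_self e)
      rwa [Scheme.IdealSheafData.ideal_sup, Pi.sup_apply, hmapbot _ _ hA hT0, sup_bot_eq] at this
  have hnt : Nontrivial Γ(S', W'.1) := by
    have := (W'.2.primeIdealOf ⟨s', hsW'⟩).isPrime
    exact nontrivial_of_ne 0 1 fun h => this.ne_top ((Ideal.eq_top_iff_one _).2 (h ▸ zero_mem _))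
  have hex : ∃ k, k ∈ Finset.range (N + 1) ∧ ((K k).comap b).ideal W' ≠ ⊥ :=
    ⟨N, Finset.mem_range.2 (Nat.lt_succ_self N), by
      rw [show K N = ⊤ from hN, Scheme.IdealSheafData.comap_top, Scheme.IdealSheafData.ideal_top, Pi.top_apply]
      exact top_ne_bot⟩
  set r := Nat.find hex with hr
  obtain ⟨hrN, hrne⟩ := Nat.find_spec hex
  obtain ⟨a, ha, hKa, hae⟩ := (hK' r hrN).resolve_left hrne
  have hKlo : ∀ j < r, ((K j).comap b).ideal W' = ⊥ := fun j hj => by
    by_contra h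
    exact Nat.find_min hex hj ⟨Finset.mem_range.2 (lt_trans hj (Finset.mem_range.1 hrN)), h⟩
  -- the chart of `X'`
  have hU₀ := W.2.preimage f
  let P : X'.affineOpens := ⟨p₁ ⁻¹ᵁ (f ⁻¹ᵁ W.1) ⊓ p₂ ⁻¹ᵁ W'.1,
    EGA43.InjFibre.isAffineOpen_inf_preimage H W.2 hU₀ W'.2 le_rfl eW⟩
  have eP : P.1 ≤ p₂ ⁻¹ᵁ W'.1 := inf_le_right
  obtain ⟨-, hproj, hflat, hdom⟩ := cont_square f H ⊥ W W' eW P rfl eP
  let _ := (p₂.appLE W'.1 P.1 eP).hom.toAlgebra
  -- the composite strict transform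
  let N' := (Scheme.Modules.pullback p₁).obj G₀
  have hN'q : Coh.IsQCoh N' := EGA43.InjFibre.isQCoh_pullback p₁ G₀
  have hN'T : CohB1.IsFT N' := isFT_pullback_qcoh p₁ (F := G₀) hG₀q hG₀T
  have : Coh.IsQCoh ((Scheme.Modules.pullback p₁).obj F) := EGA43.InjFibre.isQCoh_pullback p₁ F
  let φ' := (Scheme.Modules.pullback p₁).map φ
  have : IsIso ((Scheme.Modules.restrictFunctor (p₁ ⁻¹ᵁ (f ⁻¹ᵁ U)).ι).map φ') := isIso_restrict_pullback φ p₁ _
  set E := (I.comap f).comap p₁ with hE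
  have hEfg : BlowUp.IsFiniteTypeIdeal E :=
    FlatMorAdm.isFiniteType_comap p₁ _ (FlatMorAdm.isFiniteType_comap f I hIfg)
  have hint : ModPair.interior E ≤ p₁ ⁻¹ᵁ (f ⁻¹ᵁ U) := fun y hy => by
    have : y ∉ (E.support : Set X') := hy
    rw [hE, Scheme.IdealSheafData.support_comap, Scheme.IdealSheafData.support_comap] at this
    by_contra h
    exact this (show f (p₁ y) ∈ (I.support : Set S) by rw [hIs]; exact h)
  have hker : ∀ (A : X'.affineOpens) (m : Γ(N', A.1)),
      (φ' ≫ π).app A.1 m = 0 ↔ BlowUp.KilledByPowerNear E N' A m := by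
    intro A m
    rw [show (φ' ≫ π).app A.1 m = π.app A.1 (φ'.app A.1 m) from rfl, hG.2 A (φ'.app A.1 m)]
    show BlowUp.KilledByPowerNear E ((Scheme.Modules.pullback p₁).obj F) A (φ'.app A.1 m) ↔ _
    rw [killed_iff _ E hEfg, killed_iff _ E hEfg, ← app_resM]
    exact (injective_iff_map_eq_zero' _).1 (app_injective_of_isIso φ' (p₁ ⁻¹ᵁ (f ⁻¹ᵁ U)) (inf_le_right.trans hint)) _
  have hEP : E.ideal P = Ideal.span {algebraMap Γ(S', W'.1) Γ(X', P.1) e} := by
    rw [hE, ← Scheme.IdealSheafData.comap_comp, H.w, Scheme.IdealSheafData.comap_comp,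
      ProjLib.comap_ideal_eq (I.comap b) p₂ W' P eP, heI, Ideal.map_span, Set.image_singleton]
    rfl
  have := FlatMor12.FittSheaf.finite_affine N' hN'T P
  have hcont : ∀ k, cont Γ(S', W'.1) (Fitt.ideal Γ(X', P.1) Γ(N', P.1) k) = ((K k).comap b).ideal W' := fun k => by
    rw [← FlatMor12.FittSheaf.ideal_eq N' hN'T, ← FlatMor12.FittSheaf.comap_eq G₀ p₁ hG₀T]
    exact ideal_comap_contSheaf f H (Fitt.sheafIdeal G₀ k) W W' eW P rfl eP
  let p' := (W'.2.primeIdealOf ⟨s', hsW'⟩).asIdeal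
  have : p'.IsPrime := (W'.2.primeIdealOf ⟨s', hsW'⟩).isPrime
  have hQ := FlatMorDevissage.isPrime_map_of_fibresDomain hdom p'
  let Q : PrimeSpectrum Γ(X', P.1) := ⟨_, hQ⟩
  let x' := P.2.fromSpec Q
  have hx' : x' ∈ P.1 := P.2.range_fromSpec.le ⟨Q, rfl⟩
  have hprime : P.2.primeIdealOf ⟨x', hx'⟩ = Q :=
    P.2.fromSpec.isOpenEmbedding.injective (P.2.fromSpec_primeIdealOf _)
  have hp₂ : p₂ x' = s' := by
    have h1 := IsAffineOpen.comap_primeIdealOf_appLE (f := p₂) W'.1 W'.2 P.1 P.2 eP hx'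
    rw [hprime] at h1
    have h3 := congrArg W'.2.fromSpec
      (h1.symm.trans (PrimeSpectrum.ext (comap_map_eq hdom p') :
        PrimeSpectrum.comap (p₂.appLE W'.1 P.1 eP).hom Q = W'.2.primeIdealOf ⟨s', hsW'⟩))
    rwa [W'.2.fromSpec_primeIdealOf, W'.2.fromSpec_primeIdealOf] at h3
  obtain ⟨hlo, hnle⟩ := fitting_strictTransform (M := Γ(N', P.1)) hdom r ha he hae
    (fun j hj => (hcont j).trans (hKlo j hj)) ((hcont r).trans hKa) p'
  obtain ⟨O', hxO', hfree⟩ := exists_free_nhd (φ' ≫ π) hN'T E hker P hEP r x' hx' hlo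
    (by rw [hprime]; exact hnle)
  exact ⟨⟨x', hVmax O' r hfree hxO'⟩, hp₂⟩

end Groth.Agent.FlatMorBlowFree
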