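import Groth.Agent.CAlgH3.FittStrictFree

/-! A quotient by power torsion is free near a point outside its Fitting ideal. -/

set_option autoImplicit false
set_option backward.isDefEq.respectTransparency.types false
set_option linter.style.haveILetI false
universe u

open CategoryTheory CategoryTheory.Limits AlgebraicGeometry TopologicalSpace Opposite
open Groth.Agent.Coherent

namespace Groth.Agent.FlatMorBlowFree

open Groth.Agent

/-- An epimorphism killing exactly the power torsion is locally free near points outside the Fitting ideal. -/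
theorem exists_free_nhd {S' : Scheme.{u}} {N G : S'.Modules} (π : N ⟶ G) [Epi π] [Coh.IsQCoh N] (hN : CohB1.IsFT N)
    (E : S'.IdealSheafData)
    (hker : ∀ (W : S'.affineOpens) (m : Γ(N, W.1)), π.app W.1 m = 0 ↔ BlowUp.KilledByPowerNear E N W m)
    (V : S'.affineOpens) {a : Γ(S', V.1)} (ha : E.ideal V = Ideal.span {a}) (k : ℕ) (s' : S') (hsV : s' ∈ V.1)
    (hbot : ∀ j, j < k → Fitt.ideal Γ(S', V.1) (Γ(N, V.1) ⧸ FlatCA.powTorsion Γ(S', V.1) a Γ(N, V.1)) j = ⊥)
    (hle : ¬ Fitt.ideal Γ(S', V.1) (Γ(N, V.1) ⧸ FlatCA.powTorsion Γ(S', V.1) a Γ(N, V.1)) k ≤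
      (V.2.primeIdealOf ⟨s', hsV⟩).asIdeal) :
    ∃ U : S'.Opens, s' ∈ U ∧ Nonempty (G.restrict U.ι ≅ FlatMod.freeMod (↑U) k) := by
  haveI := FlatMor12.FittSheaf.finite_affine N hN V
  let T := FlatCA.powTorsion Γ(S', V.1) a Γ(N, V.1)
  obtain ⟨D, g, hDp, hg⟩ := FittLib.exists_not_mem_smul_mem_span (R := Γ(S', V.1)) (M := Γ(N, V.1) ⧸ T) (k := k)
    (p := (V.2.primeIdealOf ⟨s', hsV⟩).asIdeal) hle
  choose g' hg' using fun i => T.mkQ_surjective (g i)
  have hgen := CAlgH3.FittStrict.genOn_of_span_mod π E V ha (fun W m hm => (hker W m).2 hm)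
    (fun i : ULift.{u} (Fin k) => g' i.down) D (fun t => by
      obtain ⟨c, hc⟩ := (Submodule.mem_span_range_iff_exists_fun _).1 (hg (T.mkQ t))
      have hmem : D • t - ∑ i : ULift.{u} (Fin k), c i.down • g' i.down ∈ T := by
        rw [← Submodule.Quotient.mk_eq_zero, ← Submodule.mkQ_apply, map_sub, map_sum, map_smul, ← hc,
          sub_eq_zero]
        refine (Fintype.sum_equiv Equiv.ulift _ _ fun i => ?_).symm
        rw [map_smul, hg']
        rfl
      obtain ⟨e, he⟩ := FittLib.exists_pow_smul_of_mem_powTorsion hmem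
      exact ⟨fun i => c i.down, e, he⟩)
  have hrel : ∀ d : Fin k → Γ(S', V.1), (∃ e : ℕ, a ^ e • (∑ i, d i • g' i) = 0) →
      ∀ i, ∃ q : ℕ, D ^ q * d i = 0 := by
    rintro d ⟨e, he⟩ i
    refine CAlgH3.FittStrictFree.pow_mul_eq_zero_of_rel g hg hbot d ?_ i
    have : T.mkQ (∑ i, d i • g' i) = 0 := by
      rw [Submodule.mkQ_apply, Submodule.Quotient.mk_eq_zero]
      refine Submodule.mem_iSup_of_mem e ?_
      rw [Submodule.mem_torsionBy_iff]
      exact he
    simpa [map_sum, hg'] using this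
  let U := S'.basicOpen D
  let gU : ULift.{u} (Fin k) → Γ(G, U) := fun i => π.app U (resM N (S'.basicOpen_le D) (g' i.down))
  let t : ULift.{u} (Fin k) → Γ(G.restrict U.ι, ⊤) := fun i =>
    (G.restrictAppIso U.ι ⊤).inv (resM G (Scheme.Opens.ι_image_top U).le (gU i))
  let q := freeDesc fun i => unitDesc (G.restrict U.ι) (t i)
  have hepi : Epi q := epi_of_genOn_top
    (genOn_restrict_of_genOn U.ι G (U := ⊤) (hgen.res (Scheme.Opens.ι_image_top U).le))
  have hmono : Mono q := by
    classical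
    refine MeroLib.mono_of_app_injective _ fun W => (injective_iff_map_eq_zero _).2 fun z hz => ?_
    rw [freeMod_app] at hz
    let P := U.ι ''ᵁ W
    have hPU : P ≤ U := U.ι_image_le W
    have hz' : ∑ i : ULift.{u} (Fin k), (U.ι.appIso W).inv (freeCoord W i z) • resM G hPU (gU i) = 0 := by
      have := congrArg ((G.restrictAppIso U.ι W).hom) hz
      rw [map_zero, map_sum] at this
      refine Eq.trans (Finset.sum_congr rfl fun i _ => ?_) this
      rw [freeInj_freeDesc, unitVal_unitDesc, Scheme.Modules.smul_restrictAppIso_hom_apply]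
      congr 1
      have hnat := ConcreteCategory.congr_hom (G.presheaf.map_comp (homOfLE (Scheme.Opens.ι_image_top U).le).op
        (homOfLE (U.ι.image_mono (le_top : W ≤ ⊤))).op) (gU i)
      exact hnat
    have hcoord : ∀ i, freeCoord W i z = 0 := by
      intro i
      refine (ConcreteCategory.bijective_of_isIso (U.ι.appIso W).inv).1 ?_
      rw [map_zero]
      have hloc : ∀ y : P, ∃ h : Γ(S', V.1), S'.basicOpen h ≤ P ∧ y.1 ∈ S'.basicOpen h := fun y =>
        V.2.exists_basicOpen_le y (S'.basicOpen_le D (hPU y.2))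
      choose h hh hyh using hloc
      refine TopCat.Sheaf.eq_of_locally_eq' S'.sheaf (fun y : P => S'.basicOpen (h y)) P
        (fun y => homOfLE (hh y)) (fun x hx => Opens.mem_iSup.2 ⟨⟨x, hx⟩, hyh ⟨x, hx⟩⟩) _ _ fun y => ?_
      show (S'.presheaf.map (homOfLE (hh y)).op).hom ((U.ι.appIso W).inv (freeCoord W i z)) =
        (S'.presheaf.map (homOfLE (hh y)).op).hom 0
      refine Eq.trans ?_ (map_zero (S'.presheaf.map (homOfLE (hh y)).op).hom).symm
      let c : Fin k → Γ(S', S'.basicOpen (h y)) := fun l =>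
        (S'.presheaf.map (homOfLE (hh y)).op).hom ((U.ι.appIso W).inv (freeCoord W ⟨l⟩ z))
      refine CAlgH3.FittStrictFree.coeff_eq_zero π E V ha (fun W' m hm => (hker W' m).1 hm) g' D hrel (h y) ((hh y).trans hPU) c ?_ i.down
      have h3 := congrArg (resM G (hh y)) hz'
      rw [map_zero, map_sum] at h3
      refine Eq.trans ?_ h3
      refine Fintype.sum_equiv Equiv.ulift.symm _ _ fun l => ?_
      rw [resM_smul]
      congr 1
      show _ = resM G (hh y) (resM G hPU (π.app U _))
      rw [resM_resM, ← app_resM, resM_resM]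
      rfl
    apply (freeSectionsEquiv W).injective
    rw [map_zero]
    funext i
    exact hcoord i
  haveI : IsIso q := isIso_of_mono_of_epi q
  exact ⟨U, (EGA43.InjFibre.mem_basicOpen_iff_notMem V.2 hsV D).2 hDp,
    ⟨(asIso q).symm ≪≫ (Props12.freeModIso U.toScheme k)⟩⟩

end Groth.Agent.FlatMorBlowFree
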