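import Groth.Agent.FlatMorBlowFree.Content
import Groth.Agent.ProjLib.IdealComap
import Groth.Agent.EGA43.InjFibre.Scheme
import Groth.Agent.FlatMorStrata.Global
import Groth.Prelude.Def_BlowUp2

/-! Content ideal sheaves along an affine flat morphism with geometrically integral fibres. -/

set_option autoImplicit false
set_option backward.isDefEq.respectTransparency false

universe u

open CategoryTheory Limits AlgebraicGeometry TopologicalSpace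

namespace Groth.Agent.FlatMorBlowFree

open Groth.Agent

variable {X S : Scheme.{u}} (f : X ⟶ S) [IsAffineHom f] [LocallyOfFinitePresentation f] [Flat f]
  [GeometricallyIntegral f]

theorem affine_facts {W : S.Opens} (hW : IsAffineOpen W) :
    letI := (f.appLE W (f ⁻¹ᵁ W) le_rfl).hom.toAlgebra
    Module.Projective Γ(S, W) Γ(X, f ⁻¹ᵁ W) ∧ Module.Flat Γ(S, W) Γ(X, f ⁻¹ᵁ W) ∧
      FlatMorDevissage.FibresDomain Γ(S, W) Γ(X, f ⁻¹ᵁ W) := by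
  algebraize [(f.appLE W (f ⁻¹ᵁ W) le_rfl).hom]
  have hV := hW.preimage f
  have hflat : Module.Flat Γ(S, W) Γ(X, f ⁻¹ᵁ W) :=
    HasRingHomProperty.appLE @Flat f ‹_› ⟨W, hW⟩ ⟨f ⁻¹ᵁ W, hV⟩ le_rfl
  have : Algebra.FinitePresentation Γ(S, W) Γ(X, f ⁻¹ᵁ W) :=
    HasRingHomProperty.appLE @LocallyOfFinitePresentation f ‹_› ⟨W, hW⟩ ⟨f ⁻¹ᵁ W, hV⟩ le_rfl
  have H : IsPullback hV.fromSpec (Spec.map (f.appLE W (f ⁻¹ᵁ W) le_rfl)) f hW.fromSpec :=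
    (IsOpenImmersion.isPullback (Spec.map (f.appLE W (f ⁻¹ᵁ W) le_rfl)) hV.fromSpec hW.fromSpec f
      (hW.SpecMap_appLE_fromSpec f hV le_rfl).symm (by simp [IsAffineOpen.opensRange_fromSpec])).flip
  have hgi : GeometricallyIntegral (Spec.map (f.appLE W (f ⁻¹ᵁ W) le_rfl)) :=
    MorphismProperty.of_isPullback H ‹_›
  have hdom := FlatMorDevissage.fibresDomain_of_geomIntegral (R := Γ(S, W)) (D := Γ(X, f ⁻¹ᵁ W)) hgi
  exact ⟨FlatMorDevissage.projective_of_fibresDomain hdom, hflat, hdom⟩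

/-- The content of the sections of an ideal sheaf over the preimage of an affine open. -/
noncomputable def contOn (Q : X.IdealSheafData) (W : S.affineOpens) : Ideal Γ(S, W.1) :=
  letI := (f.appLE W.1 (f ⁻¹ᵁ W.1) le_rfl).hom.toAlgebra
  cont Γ(S, W.1) (Q.ideal ⟨f ⁻¹ᵁ W.1, W.2.preimage f⟩)

/-- Contents commute with base change. -/
theorem cont_square {X' S' : Scheme.{u}} {fst : X' ⟶ X} {snd : X' ⟶ S'} {b : S' ⟶ S}
    (H : IsPullback fst snd f b) (Q : X.IdealSheafData) (W : S.affineOpens) (W' : S'.affineOpens)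
    (e : W'.1 ≤ b ⁻¹ᵁ W.1) (P : X'.affineOpens) (hP : P.1 = fst ⁻¹ᵁ (f ⁻¹ᵁ W.1) ⊓ snd ⁻¹ᵁ W'.1)
    (eP : P.1 ≤ snd ⁻¹ᵁ W'.1) :
    letI := (snd.appLE W'.1 P.1 eP).hom.toAlgebra
    cont Γ(S', W'.1) ((Q.comap fst).ideal P) = (contOn f Q W).map (b.appLE W.1 W'.1 e).hom ∧
      Module.Projective Γ(S', W'.1) Γ(X', P.1) ∧ Module.Flat Γ(S', W'.1) Γ(X', P.1) ∧
        FlatMorDevissage.FibresDomain Γ(S', W'.1) Γ(X', P.1) := by
  obtain ⟨P, hPa⟩ := P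
  subst hP
  obtain ⟨hproj, hflat, hdom⟩ := affine_facts f W.2
  have hU := W.2.preimage f
  have hp := (isIso_pushoutSection_iff H e (le_refl (f ⁻¹ᵁ W.1)) rfl).1
    (isIso_pushoutSection_of_isAffineOpen H e (le_refl (f ⁻¹ᵁ W.1)) rfl W.2 W'.2 hU)
  let P' := fst ⁻¹ᵁ (f ⁻¹ᵁ W.1) ⊓ snd ⁻¹ᵁ W'.1
  let _ := (f.appLE W.1 (f ⁻¹ᵁ W.1) le_rfl).hom.toAlgebra
  let _ := (b.appLE W.1 W'.1 e).hom.toAlgebra
  let _ := (fst.appLE (f ⁻¹ᵁ W.1) P' inf_le_left).hom.toAlgebra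
  let _ := (snd.appLE W'.1 P' inf_le_right).hom.toAlgebra
  let _ : Algebra Γ(S, W.1) Γ(X', P') :=
    ((fst.appLE (f ⁻¹ᵁ W.1) P' inf_le_left).hom.comp (f.appLE W.1 (f ⁻¹ᵁ W.1) le_rfl).hom).toAlgebra
  have : IsScalarTower Γ(S, W.1) Γ(X, f ⁻¹ᵁ W.1) Γ(X', P') := .of_algebraMap_eq fun _ => rfl
  have : IsScalarTower Γ(S, W.1) Γ(S', W'.1) Γ(X', P') :=
    .of_algebraMap_eq fun r => ConcreteCategory.congr_hom hp.w r
  have : Algebra.IsPushout Γ(S, W.1) Γ(X, f ⁻¹ᵁ W.1) Γ(S', W'.1) Γ(X', P') :=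
    CommRingCat.isPushout_iff_isPushout.1 hp
  have : Algebra.IsPushout Γ(S, W.1) Γ(S', W'.1) Γ(X, f ⁻¹ᵁ W.1) Γ(X', P') :=
    Algebra.IsPushout.symm inferInstance
  let eqv := Algebra.IsPushout.equiv Γ(S, W.1) Γ(S', W'.1) Γ(X, f ⁻¹ᵁ W.1) Γ(X', P')
  refine ⟨?_, Module.Projective.of_equiv eqv.toLinearEquiv, Module.Flat.of_linearEquiv eqv.symm.toLinearEquiv,
    fun K _ _ => ?_⟩
  · rw [ProjLib.comap_ideal_eq Q fst ⟨f ⁻¹ᵁ W.1, hU⟩ ⟨P', hPa⟩ inf_le_left]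
    exact cont_map (R := Γ(S, W.1)) (R' := Γ(S', W'.1)) (S := Γ(X, f ⁻¹ᵁ W.1)) (S' := Γ(X', P')) _
  · let : Algebra Γ(S, W.1) K := ((algebraMap Γ(S', W'.1) K).comp (algebraMap Γ(S, W.1) Γ(S', W'.1))).toAlgebra
    have : IsScalarTower Γ(S, W.1) Γ(S', W'.1) K := IsScalarTower.of_algebraMap_eq' rfl
    have := hdom K
    exact MulEquiv.isDomain (TensorProduct Γ(S, W.1) K Γ(X, f ⁻¹ᵁ W.1))
      ((Algebra.TensorProduct.congr AlgEquiv.refl eqv.symm).trans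
        (Algebra.TensorProduct.cancelBaseChange Γ(S, W.1) Γ(S', W'.1) K K Γ(X, f ⁻¹ᵁ W.1))).toMulEquiv

/-- The content ideal sheaf. -/
noncomputable def contSheaf (Q : X.IdealSheafData) : S.IdealSheafData where
  ideal := contOn f Q
  map_ideal_basicOpen U s := by
    let U' : S.affineOpens := S.affineBasicOpen s
    have hP : f ⁻¹ᵁ U'.1 = (𝟙 X) ⁻¹ᵁ (f ⁻¹ᵁ U.1) ⊓ f ⁻¹ᵁ U'.1 :=
      (inf_eq_right.2 (f.preimage_mono (S.basicOpen_le s))).symm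
    have h := (cont_square f (IsPullback.id_horiz f) Q U U' (S.basicOpen_le s)
      ⟨f ⁻¹ᵁ U'.1, U'.2.preimage f⟩ hP le_rfl).1
    rw [Scheme.IdealSheafData.comap_id] at h
    refine Eq.trans ?_ h.symm
    simp [Scheme.Hom.appLE]

theorem contSheaf_ideal (Q : X.IdealSheafData) (W : S.affineOpens) :
    (contSheaf f Q).ideal W = contOn f Q W := rfl

theorem contSheaf_fg {Q : X.IdealSheafData} (hQ : BlowUp.IsFiniteTypeIdeal Q) :
    BlowUp.IsFiniteTypeIdeal (contSheaf f Q) := fun W => by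
  obtain ⟨hproj, -, -⟩ := affine_facts f W.2
  let _ := (f.appLE W.1 (f ⁻¹ᵁ W.1) le_rfl).hom.toAlgebra
  exact cont_fg (R := Γ(S, W.1)) (hQ ⟨f ⁻¹ᵁ W.1, W.2.preimage f⟩)

theorem ideal_comap_contSheaf {X' S' : Scheme.{u}} {fst : X' ⟶ X} {snd : X' ⟶ S'} {b : S' ⟶ S}
    (H : IsPullback fst snd f b) (Q : X.IdealSheafData) (W : S.affineOpens) (W' : S'.affineOpens)
    (e : W'.1 ≤ b ⁻¹ᵁ W.1) (P : X'.affineOpens) (hP : P.1 = fst ⁻¹ᵁ (f ⁻¹ᵁ W.1) ⊓ snd ⁻¹ᵁ W'.1)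
    (eP : P.1 ≤ snd ⁻¹ᵁ W'.1) :
    letI := (snd.appLE W'.1 P.1 eP).hom.toAlgebra
    cont Γ(S', W'.1) ((Q.comap fst).ideal P) = ((contSheaf f Q).comap b).ideal W' := by
  rw [ProjLib.comap_ideal_eq (contSheaf f Q) b W W' e]
  exact (cont_square f H Q W W' e P hP eP).1

theorem contSheaf_mono {Q Q' : X.IdealSheafData} (h : Q ≤ Q') : contSheaf f Q ≤ contSheaf f Q' := fun W => by
  obtain ⟨hproj, -, -⟩ := affine_facts f W.2
  let _ := (f.appLE W.1 (f ⁻¹ᵁ W.1) le_rfl).hom.toAlgebra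
  exact cont_mono (R := Γ(S, W.1)) (h ⟨f ⁻¹ᵁ W.1, W.2.preimage f⟩)

end Groth.Agent.FlatMorBlowFree
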