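import Groth.Agent.FlatMorBlowFree.Basic

/-! The strict transform has unit Fitting ideal outside the prime over a prime of the blown up ring. -/

set_option autoImplicit false
set_option backward.isDefEq.respectTransparency false

universe u

open TensorProduct

namespace Groth.Agent.FlatMorBlowFree

open Groth.Agent

theorem exists_free_away {A P : Type u} [CommRing A] [AddCommGroup P] [Module A P] [Module.Finite A P] (r : ℕ)
    {Q : Ideal A} [Q.IsPrime] (h : ¬ Fitt.ideal A P r ≤ Q) (hbot : ∀ j, j < r → Fitt.ideal A P j = ⊥) :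
    ∃ g : A, g ∉ Q ∧ Module.Free (Localization.Away g) (LocalizedModule (Submonoid.powers g) P) ∧
      Module.rank (Localization.Away g) (LocalizedModule (Submonoid.powers g) P) = r := by
  obtain ⟨g, hg, v, hv⟩ := FittLib.exists_away_span_of_not_le h
  refine ⟨g, hg, ?_⟩
  have : Nontrivial (Localization.Away g) := by
    refine nontrivial_of_ne 0 1 fun h01 =>
      (IsLocalization.isPrime_of_isPrime_disjoint (Submonoid.powers g) (Localization.Away g) Q ‹_› ?_).ne_top
        ((Ideal.eq_top_iff_one _).2 (h01 ▸ zero_mem _))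
    rw [Set.disjoint_left]
    rintro _ ⟨m, rfl⟩ hm
    exact hg (Ideal.IsPrime.mem_of_pow_mem ‹_› m hm)
  have hli : LinearIndependent (Localization.Away g) v := by
    refine FittLib.linearIndependent_of_ideal_eq_bot v hv ?_
    rcases Nat.eq_zero_or_pos r with h0 | h0
    · exact Or.inl h0
    · refine Or.inr ?_
      show Fitt.ideal (Localization (Submonoid.powers g)) (LocalizedModule (Submonoid.powers g) P) (r - 1) = ⊥
      rw [FittLib.ideal_localizedModule, hbot _ (by omega), Ideal.map_bot]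
  let b := Module.Basis.mk hli hv.ge
  exact ⟨Module.Free.of_basis b, by rw [rank_eq_card_basis b, Fintype.card_fin]⟩

variable {R₁ S' : Type u} [CommRing R₁] [CommRing S'] [Algebra R₁ S'] [Module.Flat R₁ S']
  {M' : Type u} [AddCommGroup M'] [Module S' M'] [Module.Finite S' M']

theorem algebraMap_mem_nonZeroDivisors {c : R₁} (hc : c ∈ nonZeroDivisors R₁) :
    algebraMap R₁ S' c ∈ nonZeroDivisors S' := by
  rw [mem_nonZeroDivisors_iff_right]
  intro y hy
  have hc' : IsSMulRegular S' c := Module.Flat.isSMulRegular_of_nonZeroDivisors hc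
  exact hc' (show c • y = c • (0 : S') by rw [smul_zero, Algebra.smul_def, mul_comm, hy])

theorem ideal_not_le {n : ℕ} (x : Fin n → M') (hx : Submodule.span S' (Set.range x) = ⊤) (r : ℕ)
    {T : Set (Fin n → S')} (hT : T ⊆ (FittLib.rels S' x : Set (Fin n → S')))
    {ι : Type*} (δ : ι → S') (hδ : FittLib.minorsOf T (n - r) = Ideal.span (Set.range δ))
    (J : ι → Ideal R₁) {f b : R₁} (hreg : f * b ∈ nonZeroDivisors R₁)
    (hmem : ∀ i, δ i ∈ (J i).map (algebraMap R₁ S'))
    (hmin : ∀ i (I : Ideal R₁), δ i ∈ I.map (algebraMap R₁ S') → J i ≤ I)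
    (hdvd : ∀ i, Ideal.span {f} * J i ≤ Ideal.span {f * b}) (hb : b ∈ ⨆ i, J i)
    (p' : Ideal R₁) [p'.IsPrime] [(p'.map (algebraMap R₁ S')).IsPrime] :
    ¬ Fitt.ideal S' (M' ⧸ FlatCA.powTorsion S' (algebraMap R₁ S' (f * b)) M') r ≤
      p'.map (algebraMap R₁ S') := by
  intro hle
  have hreg' := algebraMap_mem_nonZeroDivisors (S' := S') hreg
  rw [map_mul] at hreg'
  have hall : ∀ d ∈ FittLib.minorsOf T (n - r),
      algebraMap R₁ S' (f * b) ∣ algebraMap R₁ S' f * d := by
    rw [hδ]
    intro d hd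
    induction hd using Submodule.span_induction with
    | zero => simp
    | add p q _ _ hp hq => rw [mul_add]; exact dvd_add hp hq
    | smul c p _ hp => rw [smul_eq_mul, mul_left_comm]; exact hp.mul_left c
    | mem d hd =>
      obtain ⟨i, rfl⟩ := hd
      rw [← Ideal.mem_span_singleton]
      have h1 : algebraMap R₁ S' f * δ i ∈ (Ideal.span {f} * J i).map (algebraMap R₁ S') := by
        rw [Ideal.map_mul]
        exact Ideal.mul_mem_mul (Ideal.mem_map_of_mem _ (Ideal.mem_span_singleton_self f)) (hmem i)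
      have h2 := Ideal.map_mono (f := algebraMap R₁ S') (hdvd i) h1
      rwa [Ideal.map_span, Set.image_singleton] at h2
  have hJ : ∀ i, J i ≤ Ideal.span {b} * p' := fun i => hmin i _ <| by
    obtain ⟨α, hα, hα'⟩ := FittLib.exists_radical_ideal_quotient x hx r _ _ hT hall
      (FlatCA.powTorsion S' (algebraMap R₁ S' (f * b)) M')
      (fun m hm => FittLib.mem_powTorsion_of_smul hm)
      (show δ i ∈ FittLib.minorsOf T (n - r) from hδ ▸ Ideal.subset_span ⟨i, rfl⟩)
    have hαQ : α ∈ p'.map (algebraMap R₁ S') :=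
      (Ideal.IsPrime.radical ‹_›).le (Ideal.radical_mono hle hα)
    rw [map_mul, mul_assoc] at hα'
    rw [(mul_cancel_left_mem_nonZeroDivisors (mul_mem_nonZeroDivisors.1 hreg').1).1 hα', Ideal.map_mul,
      Ideal.map_span, Set.image_singleton]
    exact Ideal.mul_mem_mul (Ideal.mem_span_singleton_self _) hαQ
  obtain ⟨y, hy, hyb⟩ := Ideal.mem_span_singleton_mul.1 (iSup_le hJ hb)
  have : y = 1 := (mul_cancel_left_mem_nonZeroDivisors (mul_mem_nonZeroDivisors.1 hreg).2).1 (by rw [mul_one]; exact hyb)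
  exact (Ideal.IsPrime.ne_top ‹_›) ((Ideal.eq_top_iff_one p').2 (this ▸ hy))

end Groth.Agent.FlatMorBlowFree

namespace Groth.Agent.FlatMorBlowFree

open Groth.Agent

/-- Near each fibre of the strict transform the module is free. -/
theorem final {R S R₁ S' : Type u} [CommRing R] [CommRing S] [Algebra R S] [Module.Flat R S]
    [CommRing R₁] [CommRing S'] [Algebra R R₁] [Algebra S S'] [Algebra R₁ S'] [Algebra R S']
    [IsScalarTower R S S'] [IsScalarTower R R₁ S'] [Algebra.IsPushout R R₁ S S']
    (hdom : FlatMorDevissage.FibresDomain R S)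
    (C : S → Ideal R) (hC : ∀ d, (C d).FG ∧ d ∈ (C d).map (algebraMap R S))
    (hCmin : ∀ (d : S) (R' S' : Type u) [CommRing R'] [CommRing S'] [Algebra R R'] [Algebra S S'] [Algebra R' S']
      [Algebra R S'] [IsScalarTower R S S'] [IsScalarTower R R' S'] [Algebra.IsPushout R R' S S'] (J : Ideal R'),
      algebraMap S S' d ∈ J.map (algebraMap R' S') → (C d).map (algebraMap R R') ≤ J)
    (J : Ideal R) {M : Type u} [AddCommGroup M] [Module S M] [Module.Finite S M] {n : ℕ}
    (T : Set (Fin n → S)) {x : Fin n → M} (hT : T ⊆ (FittLib.rels S x : Set (Fin n → S)))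
    (hx : Submodule.span S (Set.range x) = ⊤) (r : ℕ) (G : Finset S)
    (hG : Ideal.span (G : Set S) = FittLib.minorsOf T (n - r))
    {f b : R} (hlow : ∀ j, j < r → ∀ d ∈ Fitt.ideal S M j, ∃ m : ℕ, f ^ m • d = 0)
    (hnzd : algebraMap R R₁ (f * b) ∈ nonZeroDivisors R₁)
    (hle : (Ideal.span {f} * J).map (algebraMap R R₁) ≤ Ideal.span {algebraMap R R₁ (f * b)})
    (hJ : J ≤ ⨆ g : G, C g) (hJ' : (⨆ g : G, C g) ≤ J) (hb : b ∈ J)
    {M' : Type u} [AddCommGroup M'] [Module S' M'] [Module S M'] [IsScalarTower S S' M']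
    (φ : M →ₗ[S] M') (hφ : IsBaseChange S' φ) (p' : Ideal R₁) [p'.IsPrime] :
    ∃ g : S', g ∉ p'.map (algebraMap R₁ S') ∧
      Module.Free (Localization.Away g)
        (LocalizedModule (Submonoid.powers g) (M' ⧸ FlatCA.powTorsion S' (algebraMap R S' (f * b)) M')) ∧
      Module.rank (Localization.Away g)
        (LocalizedModule (Submonoid.powers g) (M' ⧸ FlatCA.powTorsion S' (algebraMap R S' (f * b)) M')) = r := by
  have : Module.Flat R₁ S' :=
    Module.Flat.of_linearEquiv (Algebra.IsPushout.equiv R R₁ S S').symm.toLinearEquiv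
  have hdom' : FlatMorDevissage.FibresDomain R₁ S' := fun K _ _ => by
    let : Algebra R K := ((algebraMap R₁ K).comp (algebraMap R R₁)).toAlgebra
    have : IsScalarTower R R₁ K := IsScalarTower.of_algebraMap_eq' rfl
    let e : K ⊗[R₁] S' ≃ₐ[K] K ⊗[R] S :=
      (Algebra.TensorProduct.congr AlgEquiv.refl (Algebra.IsPushout.equiv R R₁ S S').symm).trans
        (Algebra.TensorProduct.cancelBaseChange R R₁ K K S)
    have := hdom K
    exact MulEquiv.isDomain (K ⊗[R] S) e.toMulEquiv
  have := FlatMorDevissage.isPrime_map_of_fibresDomain hdom' p'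
  have hx₁ : Submodule.span S' (Set.range (φ ∘ x)) = ⊤ := FittLib.span_range_comp_isBaseChange hφ x hx
  have : Module.Finite S' M' := ⟨Submodule.fg_def.2 ⟨_, Set.finite_range _, hx₁⟩⟩
  have hnzd' := algebraMap_mem_nonZeroDivisors (S' := S') hnzd
  rw [← IsScalarTower.algebraMap_apply] at hnzd'
  refine exists_free_away r ?_ fun j hj => ideal_quotient_eq_bot j hnzd' ?_
  · rw [IsScalarTower.algebraMap_apply R R₁ S', map_mul (algebraMap R R₁)]
    refine ideal_not_le (φ ∘ x) hx₁ r (T := (fun v => algebraMap S S' ∘ v) '' T) ?_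
      (fun g : G => algebraMap S S' g) ?_ (fun g : G => (C g).map (algebraMap R R₁))
      (by rw [← map_mul]; exact hnzd) (fun g => ?_) (fun g I hI => hCmin _ R₁ S' I hI) (fun g => ?_) ?_ p'
    · rw [FittLib.rels_isBaseChange hφ x hx]
      exact (Set.image_mono hT).trans Submodule.subset_span
    · rw [← FittLib.map_minorsOf, ← hG, Ideal.map_span, Set.image_eq_range]
      rfl
    · have := Ideal.mem_map_of_mem (algebraMap S S') (hC g).2
      rwa [Ideal.map_map, ← IsScalarTower.algebraMap_eq, IsScalarTower.algebraMap_eq R R₁ S',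
        ← Ideal.map_map] at this
    · refine le_trans ?_ (hle.trans_eq (by rw [map_mul]))
      rw [Ideal.map_mul, Ideal.map_span, Set.image_singleton]
      exact Ideal.mul_mono le_rfl (Ideal.map_mono ((le_iSup (fun g : G => C g) g).trans hJ'))
    · rw [← Ideal.map_iSup]
      exact Ideal.mem_map_of_mem _ (hJ hb)
  · rw [FittLib.ideal_isBaseChange hφ]
    refine le_bot_iff.1 (Ideal.map_le_iff_le_comap.2 fun d hd => ?_)
    obtain ⟨m, hm⟩ := hlow j hj d hd
    have h1 := congrArg (algebraMap S S') hm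
    rw [Algebra.smul_def, map_mul, ← IsScalarTower.algebraMap_apply R S S', map_zero, map_pow] at h1
    refine (mul_right_mem_nonZeroDivisors_eq_zero_iff (pow_mem hnzd' m)).1 ?_
    rw [map_mul, mul_pow, ← mul_assoc, mul_comm (algebraMap S S' d), h1, zero_mul]

end Groth.Agent.FlatMorBlowFree
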